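import Cfsg.Agent.Lib.Hay.Jc
import Cfsg.Prelude.Def_Classical

/-! The centralizer of a long root element of `PSp₄(F)`. -/

set_option autoImplicit false

namespace Cfsg.Lib.Hay

open Subgroup Matrix Cfsg.Lib.BG Cfsg.Lib.Transfer Cfsg.Lib.Symp Jc Sum
open scoped MatrixGroups

variable {F : Type*} [Field F]

def jm (g : Jc F) : Matrix (Fin 2 ⊕ Fin 2) (Fin 2 ⊕ Fin 2) F :=
  fromBlocks !![1, g.c * g.x - g.a * g.y; 0, g.a] !![g.s, g.d * g.x - g.b * g.y; g.x, g.b]
    !![0, 0; 0, g.c] !![1, 0; g.y, g.d]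

theorem jm_mem (g : Jc F) : jm g ∈ symplecticGroup (Fin 2) F := by
  rw [SymplecticGroup.mem_iff]
  have := g.det
  ext i j
  rcases i with i | i <;> rcases j with j | j <;> fin_cases i <;> fin_cases j <;>
    simp [jm, J, Matrix.mul_apply, Fintype.sum_sum_type]
  any_goals ring1
  all_goals first | linear_combination this | linear_combination -this | linear_combination g.x * this | linear_combination -g.x * this | linear_combination g.y * this | linear_combination -g.y * this

def js : Jc F →* symplecticGroup (Fin 2) F where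
  toFun g := ⟨jm g, jm_mem g⟩
  map_one' := Subtype.ext (by
    change jm 1 = 1
    ext i j
    rcases i with i | i <;> rcases j with j | j <;> fin_cases i <;> fin_cases j <;> simp [jm])
  map_mul' g h := Subtype.ext (by
    change jm (g * h) = jm g * jm h
    have := g.det
    ext i j
    rcases i with i | i <;> rcases j with j | j <;> fin_cases i <;> fin_cases j <;>
      simp [jm, Matrix.mul_apply, Fintype.sum_sum_type]
    any_goals ring1
    · linear_combination (h.c * h.x - h.a * h.y) * this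
    · linear_combination (h.d * h.x - h.b * h.y) * this)

theorem js_coe (g : Jc F) : (js g).1 = jm g := rfl

theorem exists_js {A : symplecticGroup (Fin 2) F} (h0 : A.1 (inl 0) (inl 0) = 1) (h1 : A.1 (inl 1) (inl 0) = 0)
    (h2 : A.1 (inr 0) (inl 0) = 0) (h3 : A.1 (inr 1) (inl 0) = 0) : ∃ g, js g = A := by
  have e := SymplecticGroup.mem_iff'.1 A.2
  have e1 := congrFun (congrFun e (inl 0)) (inl 1)
  have e2 := congrFun (congrFun e (inl 0)) (inr 0)
  have e3 := congrFun (congrFun e (inl 0)) (inr 1)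
  have e4 := congrFun (congrFun e (inl 1)) (inr 0)
  have e5 := congrFun (congrFun e (inl 1)) (inr 1)
  have e6 := congrFun (congrFun e (inr 0)) (inr 1)
  simp [J, Matrix.mul_apply, Fintype.sum_sum_type, h0, h1, h2, h3] at e1 e2 e3 e4 e5 e6
  rw [e1, e2] at e4
  rw [e1, e3] at e5
  rw [e2, e3] at e6
  refine ⟨⟨A.1 (inl 1) (inl 1), A.1 (inl 1) (inr 1), A.1 (inr 1) (inl 1), A.1 (inr 1) (inr 1),
    A.1 (inl 1) (inr 0), A.1 (inr 1) (inr 0), A.1 (inl 0) (inr 0), by linear_combination -e5⟩, Subtype.ext ?_⟩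
  rw [js_coe]
  ext i j
  rcases i with i | i <;> rcases j with j | j <;> fin_cases i <;> fin_cases j <;>
    simp [jm, h0, h1, h2, h3, e1, e2, e3]
  · linear_combination e4
  · linear_combination -e6

def jp : Jc F →* PSp 2 F := (QuotientGroup.mk' _).comp js

theorem jp_inj (h2 : (2 : F) ≠ 0) : Function.Injective (jp : Jc F → PSp 2 F) := by
  refine (injective_iff_map_eq_one _).2 fun g h => ?_
  rcases (mem_center_sp_iff _).1 ((QuotientGroup.eq_one_iff _).1 h) with e | e
  · have e' : ∀ i j, jm g i j = (1 : Matrix _ _ F) i j := fun i j => congrFun (congrFun (congrArg Subtype.val e) i) j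
    ext
    exacts [by simpa [jm] using e' (inl 1) (inl 1), by simpa [jm] using e' (inl 1) (inr 1),
      by simpa [jm] using e' (inr 1) (inl 1), by simpa [jm] using e' (inr 1) (inr 1),
      by simpa [jm] using e' (inl 1) (inr 0), by simpa [jm] using e' (inr 1) (inr 0),
      by simpa [jm] using e' (inl 0) (inr 0)]
  · have := congrFun (congrFun (congrArg Subtype.val e) (inl 0)) (inl 0)
    simp [js_coe, jm] at this
    exact (h2 (by linear_combination this)).elim

theorem cent_jp (h2 : (2 : F) ≠ 0) {s : F} (hs : s ≠ 0) : 𝐂[jp (mm 0 0 s)] = jp.range := by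
  refine le_antisymm (fun x hx => ?_) ?_
  swap
  · rintro _ ⟨g, rfl⟩
    exact mem_cent1.2 (by rw [← map_mul, zz_comm, map_mul])
  obtain ⟨A, rfl⟩ := QuotientGroup.mk_surjective x
  have h1 : (js (mm 0 0 s) * A)⁻¹ * (A * js (mm 0 0 s)) ∈ center _ :=
    QuotientGroup.eq.1 (mem_cent1.1 hx).symm
  have key : A * js (mm 0 0 s) = js (mm 0 0 s) * A := by
    rcases (mem_center_sp_iff _).1 h1 with e | e
    · exact (inv_mul_eq_one.1 e).symm
    have e1 := congrArg Subtype.val (inv_mul_eq_iff_eq_mul.1 e)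
    have e2 : ∀ i j, (A.1 * jm (mm 0 0 s)) i j = -(jm (mm 0 0 s) * A.1) i j := fun i j => by
      have := congrFun (congrFun e1 i) j
      simpa [js_coe] using this
    have k : ∀ i, A.1 i (inl 0) = 0 := fun i => by
      have a := e2 i (inl 0)
      have b := e2 (inr 0) (inl 0)
      simp [jm, mm, Matrix.mul_apply, Fintype.sum_sum_type] at b
      have b' : A.1 (inr 0) (inl 0) = 0 := mul_left_cancel₀ h2 (by linear_combination b)
      refine mul_left_cancel₀ h2 ?_
      rcases i with i | i <;> fin_cases i <;>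
        simp [jm, mm, Matrix.mul_apply, Fintype.sum_sum_type, b'] at a ⊢ <;>
        first | done | exact .inr (mul_left_cancel₀ h2 (by linear_combination a))
    have e := congrFun (congrFun (SymplecticGroup.mem_iff'.1 A.2) (inl 0)) (inr 0)
    simp [J, Matrix.mul_apply, Fintype.sum_sum_type, k] at e
  have e2 : ∀ i j, (A.1 * jm (mm 0 0 s)) i j = (jm (mm 0 0 s) * A.1) i j := fun i j =>
    congrFun (congrFun (congrArg Subtype.val key) i) j
  have a1 := e2 (inl 1) (inr 0)
  have a2 := e2 (inl 0) (inl 0)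
  have a3 := e2 (inr 1) (inr 0)
  have a4 := e2 (inl 0) (inr 0)
  have e := congrFun (congrFun (SymplecticGroup.mem_iff'.1 A.2) (inl 0)) (inr 0)
  simp [jm, mm, Matrix.mul_apply, Fintype.sum_sum_type, hs] at a1 a2 a3 a4
  simp [J, Matrix.mul_apply, Fintype.sum_sum_type, a1, a2, a3] at e
  have a5 : A.1 (inr 0) (inr 0) = A.1 (inl 0) (inl 0) := mul_left_cancel₀ hs (by linear_combination -a4)
  rcases mul_self_eq_one_iff.1 (a5 ▸ e) with a | a
  · obtain ⟨g, rfl⟩ := exists_js a a1 a2 a3
    exact ⟨g, rfl⟩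
  · obtain ⟨g, hg⟩ := exists_js (A := A * negOneSp _ F) (by simp [a]) (by simp [a1]) (by simp [a2]) (by simp [a3])
    refine ⟨g, QuotientGroup.eq.2 ?_⟩
    rw [hg, _root_.mul_inv_rev, inv_mul_cancel_right]
    exact inv_mem ((mem_center_sp_iff _).2 (.inr rfl))

variable {p : ℕ} [hp : Fact p.Prime] [CharP F p] [Fintype F]

theorem syl_jp (h2 : (2 : F) ≠ 0) : Syl p (P0.map (jp (F := F))) ⊤ := by
  refine Syl.mk' le_top (pgroup_P0.map _) fun h => ?_
  have e1 := (P0.map (jp (F := F))).card_mul_index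
  have e2 := (center (symplecticGroup (Fin 2) F)).card_mul_index
  rw [card_map_of_injective (jp_inj h2), card_P0] at e1
  rw [index_eq_card, ← e1, card_sp, Fintype.card_fin, mul_left_comm] at e2
  have e3 := Nat.eq_of_mul_eq_mul_left (pow_pos Nat.card_pos 4) e2
  rw [relIndex_top_right] at h
  have h3 := (Dvd.dvd.mul_left h _).trans e3.dvd
  obtain ⟨n, -, hn⟩ := FiniteField.card F p
  have k : ∀ m, m ≠ 0 → ¬ p ∣ Nat.card F ^ m - 1 := fun m hm h => by
    have : p ∣ Nat.card F ^ m := by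
      rw [Nat.card_eq_fintype_card, hn]; exact dvd_pow (dvd_pow_self _ n.ne_zero) hm
    exact hp.out.ne_one (Nat.dvd_one.1 ((Nat.dvd_sub_iff_right (Nat.one_le_pow _ _ Nat.card_pos) this).1 h))
  simp only [Finset.prod_range_succ, Finset.prod_range_zero, one_mul] at h3
  exact ((Nat.Prime.dvd_mul hp.out).1 h3).elim (k _ (by omega)) (k _ (by omega))

theorem exists_equiv (h2 : (2 : F) ≠ 0) {x : PSp 2 F} (hx : x ≠ 1) (U : Sylow p (PSp 2 F)) (hU : x ∈ U.1)
    (hc : ∀ u ∈ U.1, u * x = x * u) : Nonempty (𝐂[x] ≃* Jc F) := by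
  obtain ⟨g, -, e⟩ := Syl.exists_conj_eq (Syl.of_sylow_top U) (syl_jp h2)
  obtain ⟨k, hk, e1⟩ := e.ge (conj_mem_conj.2 hU)
  obtain ⟨s, rfl⟩ := cen_P h2 (g := k) fun l hl => jp_inj h2 (by
    have := hc _ (mem_conj.1 (e.le ⟨l, hl, rfl⟩))
    rw [map_mul, map_mul, e1]
    calc _ = g * (g⁻¹ * jp l * g * x) * g⁻¹ := by group
      _ = _ := by rw [this]; group)
  have hs : s ≠ 0 := by
    rintro rfl
    rw [mm_zero, map_one, eq_comm, conj_eq_one_iff] at e1
    exact hx e1
  exact ⟨(conjEquiv g _).trans ((MulEquiv.subgroupCongr (by rw [conj_cent1, ← e1, cent_jp h2 hs])).trans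
    (MonoidHom.ofInjective (jp_inj h2)).symm)⟩

end Cfsg.Lib.Hay
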