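import Cfsg.Agent.Lib.Hay.Sp

/-! Groups in which the centralizer of a `p`-central element is that of `PSp₄(q)`: basic facts. -/

set_option autoImplicit false

namespace Cfsg.Lib.Hay

open Subgroup Cfsg.Lib.BG Cfsg.Lib.Transfer Jc

variable {F G : Type*} [Field F] [Group G]

theorem cj_of {g x : G} (h : g * x = x * g) : g * x * g⁻¹ = x := by rw [h, mul_inv_cancel_right]
theorem of_cj {g x : G} (h : g * x * g⁻¹ = x) : g * x = x * g := mul_inv_eq_iff_eq_mul.1 h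

theorem cj_ne {g x : G} (h : x ≠ 1) : g * x * g⁻¹ ≠ 1 := by simpa using h
theorem cj_ne' {g x : G} (h : x ≠ 1) : g⁻¹ * x * g ≠ 1 := by simpa using cj_ne (g := g⁻¹) h

theorem norb_card (H Z : Subgroup G) :
    {Y | ∃ n ∈ H, n ⋆ Z = Y}.ncard * Nat.card ↥(H ⊓ 𝐍(Z)) = Nat.card H := by
  letI : MulAction G (Subgroup G) :=
    { smul g Y := g ⋆ Y, one_smul := conj_one, mul_smul := fun a b Y => (conj_conj a b Y).symm }
  rw [Symp.card_eq_card_inf_stabilizer_mul H Z, mul_comm,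
    show MulAction.stabilizer G Z = 𝐍(Z) from Subgroup.ext fun _ => conj_eq_self_iff]
  congr 2
  exact Set.ext fun y => ⟨fun ⟨k, m, e⟩ => ⟨⟨k, m⟩, e⟩, fun ⟨k, e⟩ => ⟨k, k.2, e⟩⟩

theorem corb_card (H : Subgroup G) (x : G) :
    {y | ∃ n ∈ H, n * x * n⁻¹ = y}.ncard * Nat.card ↥(H ⊓ 𝐂[x]) = Nat.card H := by
  letI : MulAction G G := MulAction.compHom G (MulAut.conj : G →* MulAut G)
  rw [Symp.card_eq_card_inf_stabilizer_mul H x, mul_comm,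
    show MulAction.stabilizer G x = 𝐂[x] from Subgroup.ext fun _ => mul_inv_eq_iff_eq_mul.trans mem_cent1.symm]
  congr 2
  exact Set.ext fun y => ⟨fun ⟨k, m, e⟩ => ⟨⟨k, m⟩, e⟩, fun ⟨k, e⟩ => ⟨k, k.2, e⟩⟩

theorem sq_or [Fintype F] (h4 : Fintype.card F % 4 = 3) {b : F} (hb : b ≠ 0) :
    ∃ d : Fˣ, b = d ^ 2 ∨ b = -d ^ 2 := by
  classical
  have h1 : ¬ IsSquare (-1 : F) := fun h => FiniteField.isSquare_neg_one_iff.1 h h4
  have k : ∀ b : F, b ≠ 0 → IsSquare b → ∃ d : Fˣ, b = d ^ 2 := fun b hb ⟨d, e⟩ =>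
    ⟨.mk0 d (by rintro rfl; simp_all), by simp [e, sq]⟩
  by_cases h : IsSquare b
  · exact (k b hb h).imp fun _ => .inl
  · have : IsSquare (-b) := by
      rw [← quadraticChar_neg_one_iff_not_isSquare] at h h1
      rw [← quadraticChar_one_iff_isSquare (neg_ne_zero.2 hb), ← neg_one_mul, map_mul, h, h1]; rfl
    exact (k _ (neg_ne_zero.2 hb) this).imp fun d e => .inr (by rw [← e, neg_neg])

theorem not_neg_sq [Fintype F] (h4 : Fintype.card F % 4 = 3) {a b : F} (h : a ^ 2 = -b ^ 2) : a = 0 := by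
  by_contra ha
  exact FiniteField.isSquare_neg_one_iff.1 ⟨b / a, by field_simp; linear_combination -h⟩ h4

structure Hy (φ : Jc F →* G) : Prop where
  inj : Function.Injective φ
  two : (2 : F) ≠ 0
  cen : ∀ s, s ≠ 0 → 𝐂[φ (mm 0 0 s)] = φ.range

variable {φ : Jc F →* G} {g n w : G} {k : Jc F} {b x s s' : F} {Y A : Subgroup G}

theorem mem_Z : g ∈ Z0.map φ ↔ ∃ s, φ (mm 0 0 s) = g :=
  ⟨fun ⟨_, ⟨s, e⟩, e'⟩ => ⟨s, e ▸ e'⟩, fun ⟨s, e⟩ => ⟨_, ⟨s, rfl⟩, e⟩⟩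
theorem mem_M : g ∈ M0.map φ ↔ ∃ b x s, φ (mm b x s) = g :=
  ⟨fun ⟨_, ⟨b, x, s, e⟩, e'⟩ => ⟨b, x, s, e ▸ e'⟩, fun ⟨b, x, s, e⟩ => ⟨_, mm_mem b x s, e⟩⟩
theorem m_mem (b x s : F) : φ (mm b x s) ∈ M0.map φ := mem_M.2 ⟨b, x, s, rfl⟩
theorem z_mem (s : F) : φ (mm 0 0 s) ∈ Z0.map φ := mem_Z.2 ⟨s, rfl⟩
theorem map_cj (φ : Jc F →* G) (k l : Jc F) : φ k * φ l * (φ k)⁻¹ = φ (k * l * k⁻¹) := by simp
theorem M_comm (hg : g ∈ M0.map φ) (hn : n ∈ M0.map φ) : g * n = n * g := by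
  obtain ⟨b, x, s, rfl⟩ := mem_M.1 hg
  obtain ⟨b', x', s', rfl⟩ := mem_M.1 hn
  simp only [← map_mul, mm_mul, add_comm]
theorem Z_le_M : Z0.map φ ≤ M0.map φ := map_mono Z0_le
theorem M_le_P : M0.map φ ≤ P0.map φ := map_mono M0_le
theorem C_le_cZ : φ.range ≤ 𝐂(Z0.map φ) := by
  rintro _ ⟨k, rfl⟩
  refine mem_cent.2 fun _ h => ?_
  obtain ⟨s, rfl⟩ := mem_Z.1 h
  rw [← map_mul, ← zz_comm, map_mul]
theorem nZ (k : Jc F) : φ k ∈ 𝐍(Z0.map φ) := cent_le_norm _ (C_le_cZ ⟨k, rfl⟩)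
theorem fixZ (k : Jc F) : φ k ⋆ Z0.map φ = Z0.map φ := conj_eq_of_norm (nZ k)

namespace Hy

variable (h : Hy φ)
include h

theorem conj (g : G) : Hy ((MulAut.conj g).toMonoidHom.comp φ) :=
  ⟨(MulAut.conj g).injective.comp h.inj, h.two, fun s hs => by
    rw [MonoidHom.range_comp, ← h.cen s hs, conj_cent1]; rfl⟩

theorem m_inj {b' x' : F} (e : φ (mm b x s) = φ (mm b' x' s')) : b = b' ∧ x = x' ∧ s = s' := mm_inj (h.inj e)
theorem m_eq_one (e : φ (mm b x s) = 1) : b = 0 ∧ x = 0 ∧ s = 0 := h.m_inj (e.trans (map_one φ).symm)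

theorem mem_C (hs : s ≠ 0) (e : g * φ (mm 0 0 s) = φ (mm 0 0 s) * g) : ∃ k, φ k = g :=
  (h.cen s hs).le (mem_cent1.2 e)

theorem cent_z (hw : w ∈ Z0.map φ) (h1 : w ≠ 1) : 𝐂[w] = φ.range := by
  obtain ⟨s, rfl⟩ := mem_Z.1 hw
  exact h.cen s (by rintro rfl; exact h1 (map_one φ))

theorem cZ : 𝐂(Z0.map φ) = φ.range :=
  le_antisymm ((cent_le_cent1 (z_mem 1)).trans (h.cen 1 one_ne_zero).le) C_le_cZ

theorem ZC : φ.range ⊓ 𝐂(φ.range) = Z0.map φ := by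
  refine le_antisymm ?_ (le_inf (map_le_range _ _) (cent_symm C_le_cZ))
  rintro _ ⟨⟨k, rfl⟩, hk⟩
  exact ⟨k, cen_P h.two fun l _ => h.inj (by simpa using mem_cent.1 hk _ ⟨l, rfl⟩), rfl⟩

theorem nC : 𝐍(Z0.map φ) = 𝐍(φ.range) :=
  le_antisymm (h.cZ ▸ norm_cent le_rfl) (h.ZC ▸ norm_center le_rfl)

theorem ti (hw : w ∈ Z0.map φ) (h1 : w ≠ 1) (e : g * w * g⁻¹ ∈ Z0.map φ) : g ∈ 𝐍(Z0.map φ) := by
  rw [h.nC]
  refine norm_of_conj_eq ?_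
  rw [← h.cent_z hw h1, conj_cent1, h.cent_z e (by simpa using h1), h.cent_z hw h1]

theorem ti' (hw : w ∈ n ⋆ Z0.map φ) (h1 : w ≠ 1) (e : w ∈ g ⋆ Z0.map φ) : n ⋆ Z0.map φ = g ⋆ Z0.map φ := by
  have := h.ti (g := g⁻¹ * n) (mem_conj.1 hw) (cj_ne' h1)
    (by simpa [mul_assoc] using mem_conj.1 e)
  rw [← conj_inv_conj g (n ⋆ _), conj_conj g⁻¹, conj_eq_of_norm this]

theorem cen' (hw : w ∈ n ⋆ Z0.map φ) (h1 : w ≠ 1) : 𝐂[w] = 𝐂(n ⋆ Z0.map φ) := by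
  rw [← conj_centralizer, h.cZ, ← h.cent_z (mem_conj.1 hw) (cj_ne' h1),
    conj_cent1]
  congr 2; group

theorem cM (hg : g ∈ 𝐂(M0.map φ)) : g ∈ M0.map φ := by
  have c := fun b x s => (mem_cent.1 hg _ (m_mem b x s)).symm
  obtain ⟨k, rfl⟩ := h.mem_C one_ne_zero (c 0 0 1)
  exact ⟨k, cen_M (h.inj (by simpa using c 1 0 0)) (h.inj (by simpa using c 0 1 0)), rfl⟩

theorem mem_B (hk : φ k ∈ 𝐍(M0.map φ)) : k ∈ B0 := by
  obtain ⟨l, hl, e⟩ := conj_mem_of_norm hk (m_mem 1 0 0)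
  rw [map_cj] at e
  exact c_of_conj (h.inj e ▸ P0_le (M0_le hl))

variable [Finite G]

omit h in
theorem nM (hk : k ∈ B0) : φ k ∈ 𝐍(M0.map φ) := mem_normalizer_of_conj_le (conj_le_iff.2 fun _ hx => by
  obtain ⟨b, x, s, rfl⟩ := mem_M.1 hx
  rw [map_cj, B0.conj hk]
  exact m_mem ..)

variable [Finite F]

omit [Finite G] in
theorem card_Z : Nat.card (Z0.map φ) = Nat.card F := by rw [card_map_of_injective h.inj, card_Z0]
omit [Finite G] in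
theorem card_M : Nat.card (M0.map φ) = Nat.card F ^ 3 := by rw [card_map_of_injective h.inj, card_M0]

omit [Finite G] in
theorem M_uniq (h1 : A ≤ P0.map φ) (hc : ∀ a ∈ A, ∀ b ∈ A, a * b = b * a) (h3 : Nat.card F ^ 3 ≤ Nat.card A) :
    A = M0.map φ := by
  have e : (A.comap φ).map φ = A := map_comap_eq_self (h1.trans (map_le_range _ _))
  rw [← e, M0_uniq h.two (A := A.comap φ) (fun _ ha => (mem_map_iff_mem h.inj).1 (h1 ha))
    (fun a ha b hb => h.inj (by simpa using hc _ ha _ hb)) (by rwa [← card_map_of_injective h.inj, e])]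

omit [Finite G] in
theorem M_wc (h1 : g ⋆ M0.map φ ≤ P0.map φ) : g ∈ 𝐍(M0.map φ) :=
  norm_of_conj_eq (h.M_uniq h1 (fun a ha b hb => by
    have := M_comm (mem_conj.1 ha) (mem_conj.1 hb)
    simpa [mul_assoc] using congrArg (g * · * g⁻¹) this) (by rw [card_conj, h.card_M]))

omit [Finite G] in
theorem nP_le_nM : 𝐍(P0.map φ) ≤ 𝐍(M0.map φ) := fun _ hg => h.M_wc (conj_le_of_norm M_le_P hg)

omit [Finite G] [Finite F] in
theorem ZP : P0.map φ ⊓ 𝐂(P0.map φ) = Z0.map φ := by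
  refine le_antisymm ?_ (le_inf (Z_le_M.trans M_le_P) (cent_symm ((map_le_range _ _).trans C_le_cZ)))
  rintro _ ⟨⟨k, -, rfl⟩, hk⟩
  exact ⟨k, cen_P h.two fun l hl => h.inj (by simpa using mem_cent.1 hk _ ⟨l, hl, rfl⟩), rfl⟩

omit [Finite G] [Finite F] in
theorem nP_le_nZ : 𝐍(P0.map φ) ≤ 𝐍(Z0.map φ) := h.ZP ▸ norm_center le_rfl

variable (p : ℕ) [hp : Fact p.Prime] [CharP F p]

omit h [Finite G] in
theorem pgP : IsPGroup p (P0.map φ) := pgroup_P0.map φ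

include p in
theorem nP (h1 : g ∈ 𝐍(M0.map φ)) (h2 : g ∈ 𝐍(Z0.map φ)) : g ∈ 𝐍(P0.map φ) :=
  mem_normalizer_of_conj_le (conj_le_iff.2 fun a ha => by
    obtain ⟨l, e⟩ := conj_mem_of_norm (h.nC.le h2) (map_le_range _ _ ha)
    obtain ⟨m, e'⟩ := pgP p ⟨a, ha⟩
    obtain ⟨k, hk, rfl⟩ := ha
    refine ⟨l, mem_P0_of_pow (p := p) (k := m) (h.mem_B (e ▸ mul_mem (mul_mem h1 (nM (P0_le hk))) (inv_mem h1)))
      (h.inj ?_), e⟩
    rw [map_pow, e, conj_pow, show φ k ^ p ^ m = 1 from congrArg Subtype.val e', map_one]; group)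

theorem syl : Syl p (P0.map φ) ⊤ := by
  have s : Syl p (P0.map φ) φ.range := φ.range_eq_map ▸ (syl_P0 (p := p)).map φ
  refine Syl.of_norm (Syl.of_max (le_inf le_top (le_norm _)) (pgP p) fun R hR h1 h2 => ?_)
  have z : Z0.map φ ≤ R := (Z_le_M.trans M_le_P).trans h1
  obtain ⟨w, hw, w1⟩ := exists_ne_one (nil_meet_center (pgroup_nil hR) z
    ((h2.trans inf_le_right).trans h.nP_le_nZ) (ne_bot_of_mem (z_mem 1) fun e => one_ne_zero (h.m_eq_one e).2.2))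
  exact (s.eq_of_le_pgroup h1 (h.cent_z hw.1 w1 ▸ le_cent1_iff.2 hw.2) hR).ge

end Hy

/-- Passage from the hypotheses of the statements to coordinates. -/
theorem exists_hy [Finite G] [Fintype F] {p : ℕ} [Fact p.Prime] [CharP F p] (h2 : (2 : F) ≠ 0) {x : PSp 2 F}
    (hx : x ≠ 1) (U : Sylow p (PSp 2 F)) (hU : x ∈ U.1) (hc : ∀ u ∈ U.1, u * x = x * u) {α : G}
    (e : 𝐂[α] ≃* 𝐂[x]) (hb : ∀ z ∈ 𝐂[α], z ≠ 1 → (∀ c ∈ 𝐂[α], c * z = z * c) → 𝐂[z] = 𝐂[α]) (P : Sylow p G) :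
    ∃ φ : Jc F →* G, Hy φ ∧ P0.map φ = P ∧ ∃ g, φ.range = g ⋆ 𝐂[α] := by
  obtain ⟨e'⟩ := exists_equiv h2 hx U hU hc
  let φ := (𝐂[α]).subtype.comp (e.trans e').symm.toMonoidHom
  have r : φ.range = 𝐂[α] := by
    rw [MonoidHom.range_comp, MonoidHom.range_eq_top.2 (e.trans e').symm.surjective, ← MonoidHom.range_eq_map,
      range_subtype]
  have i : Function.Injective φ := Subtype.val_injective.comp (e.trans e').symm.injective
  have h : Hy φ := ⟨i, h2, fun s hs => by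
    rw [hb _ (r.le ⟨_, rfl⟩) (fun e => hs (mm_inj (i (e.trans (map_one φ).symm))).2.2) fun c hc =>
      mem_cent.1 (C_le_cZ (r.ge hc)) _ (z_mem s) |>.symm, r]⟩
  obtain ⟨g, -, e⟩ := (h.syl p).exists_conj_eq (Syl.of_sylow_top P)
  exact ⟨_, h.conj g, by rw [e, map_map], g, by rw [MonoidHom.range_comp, r]⟩

end Cfsg.Lib.Hay
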