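import Cfsg.Agent.Lib.Hay.Om

/-! The normalizer of `M` acts on `M` as `GL₂(F)` on the symmetric matrices. -/

set_option autoImplicit false

namespace Cfsg.Lib.Hay

open Subgroup Cfsg.Lib.BG Cfsg.Lib.Transfer Jc
open scoped MatrixGroups

variable {F G : Type*} [Field F] [Group G] {φ : Jc F →* G} {g n w : G} {k : Jc F} {c b x s b' x' s' y : F}
  {Y : Subgroup G}

/-- twisted coordinates (the twist is needed only for the field with three elements) -/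
def mv (φ : Jc F →* G) (c b x s : F) : G := φ (mm b x (s + c * b))

theorem mv_mul (b x s b' x' s' : F) : mv φ c b x s * mv φ c b' x' s' = mv φ c (b + b') (x + x') (s + s') := by
  rw [mv, mv, mv, ← map_mul, mm_mul]; congr 2; ring
theorem mv_inv (b x s : F) : (mv φ c b x s)⁻¹ = mv φ c (-b) (-x) (-s) := by
  rw [mv, mv, ← map_inv, mm_inv]; congr 2; ring
theorem mv_z (s : F) : mv φ c 0 0 s = φ (mm 0 0 s) := by simp [mv]
theorem mv_mem (b x s : F) : mv φ c b x s ∈ M0.map φ := m_mem ..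
theorem mv_ex (c : F) (h : g ∈ M0.map φ) : ∃ b x s, mv φ c b x s = g :=
  let ⟨b, x, s, e⟩ := mem_M.1 h; ⟨b, x, s - c * b, by rw [mv, sub_add_cancel, e]⟩
theorem Hy.mv_inj (h : Hy φ) (e : mv φ c b x s = mv φ c b' x' s') : b = b' ∧ x = x' ∧ s = s' := by
  obtain ⟨rfl, e2, e3⟩ := h.m_inj e
  exact ⟨rfl, e2, add_right_cancel e3⟩
theorem mv_P (hk : k ∈ P0) (b x s : F) :
    φ k * mv φ c b x s * (φ k)⁻¹ = mv φ c b (x - b * k.y) (s - 2 * x * k.y + b * k.y ^ 2) := by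
  rw [mv, mv, map_cj, B0.conj (P0_le hk), hk.1]; congr 2 <;> ring
theorem mv_t (b x s : F) : φ tt * mv φ c b x s * (φ tt)⁻¹ = mv φ c b (-x) s := by rw [mv, mv, map_cj, tt_mm]

theorem cjm {b₁ x₁ s₁ b₂ x₂ s₂ b₃ x₃ s₃ b₄ x₄ s₄ : F} (h : n * mv φ c b₁ x₁ s₁ * n⁻¹ = mv φ c b₂ x₂ s₂)
    (h' : n * mv φ c b₃ x₃ s₃ * n⁻¹ = mv φ c b₄ x₄ s₄)
    (e : b = b₁ + b₃ ∧ x = x₁ + x₃ ∧ s = s₁ + s₃ ∧ b' = b₂ + b₄ ∧ x' = x₂ + x₄ ∧ s' = s₂ + s₄ := by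
      refine ⟨?_, ?_, ?_, ?_, ?_, ?_⟩ <;> ring1) : n * mv φ c b x s * n⁻¹ = mv φ c b' x' s' := by
  obtain ⟨rfl, rfl, rfl, rfl, rfl, rfl⟩ := e
  rw [← mv_mul, ← conj_mul, h, h', mv_mul]

/-- `n` acts on `M` as `A` -/
def Rl (φ : Jc F →* G) (c : F) (n : G) (α β γ δ : F) : Prop := ∀ b x s, n * mv φ c b x s * n⁻¹ =
  mv φ c (γ ^ 2 * s + 2 * γ * δ * x + δ ^ 2 * b) (α * γ * s + (α * δ + β * γ) * x + β * δ * b)
    (α ^ 2 * s + 2 * α * β * x + β ^ 2 * b)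

theorem Rl.of {α β γ δ : F} (h1 : ∀ b, n * mv φ c b 0 0 * n⁻¹ = mv φ c (δ ^ 2 * b) (β * δ * b) (β ^ 2 * b))
    (h2 : ∀ x, n * mv φ c 0 x 0 * n⁻¹ = mv φ c (2 * γ * δ * x) ((α * δ + β * γ) * x) (2 * α * β * x))
    (h3 : ∀ s, n * mv φ c 0 0 s * n⁻¹ = mv φ c (γ ^ 2 * s) (α * γ * s) (α ^ 2 * s)) : Rl φ c n α β γ δ :=
  fun b x s => by
    rw [← mv_mul, ← mv_mul, ← h1, ← h2, ← h3, conj_mul, conj_mul, mv_mul, mv_mul]; simp

variable (φ c) in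
def Gam : Subgroup (G × GL (Fin 2) F) where
  carrier := {v | Rl φ c v.1 (v.2 0 0) (v.2 0 1) (v.2 1 0) (v.2 1 1)}
  one_mem' b x s := by simp
  mul_mem' {v w} hv hw b x s := by
    rw [Prod.fst_mul, _root_.mul_inv_rev, ← mul_assoc, mul_assoc v.1, mul_assoc v.1, hw, hv]
    simp only [Prod.snd_mul, Units.val_mul, Matrix.mul_apply, Fin.sum_univ_two]
    congr 1 <;> ring
  inv_mem' {v} hv b x s := by
    have e : ∀ i j, (v.2.1 * v.2⁻¹.1) i j = (1 : Matrix _ _ F) i j := fun i j => by rw [Units.mul_inv]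
    have e1 := e 0 0
    have e2 := e 0 1
    have e3 := e 1 0
    have e4 := e 1 1
    simp only [Matrix.mul_apply, Fin.sum_univ_two, Matrix.one_apply_eq, Matrix.one_apply_ne, ne_eq, zero_ne_one,
      one_ne_zero, not_false_eq_true] at e1 e2 e3 e4
    rw [Prod.snd_inv, Prod.fst_inv, inv_inv, mul_assoc, inv_mul_eq_iff_eq_mul, ← eq_mul_inv_iff_mul_eq, hv]
    generalize v.2⁻¹.1 0 0 = a at *
    generalize v.2⁻¹.1 0 1 = b at *
    generalize v.2⁻¹.1 1 0 = c at *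
    generalize v.2⁻¹.1 1 1 = d at *
    congr 1 <;> grind

theorem mem_Gam {A : GL (Fin 2) F} : (n, A) ∈ Gam φ c ↔ Rl φ c n (A 0 0) (A 0 1) (A 1 0) (A 1 1) := Iff.rfl

def gl (α β γ δ : F) (h : α * δ - β * γ ≠ 0) : GL (Fin 2) F :=
  Matrix.GeneralLinearGroup.mkOfDetNeZero !![α, β; γ, δ] (by rwa [Matrix.det_fin_two_of])

theorem Rl.mem {α β γ δ : F} (h : Rl φ c n α β γ δ) (e : α * δ - β * γ ≠ 0) : (n, gl α β γ δ e) ∈ Gam φ c := h

theorem gl_top {K : Subgroup (GL (Fin 2) F)} (h1 : ∀ y, gl 1 y 0 1 (by simp) ∈ K)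
    (h2 : ∀ d : Fˣ, gl 1 0 0 (d : F) (by simp) ∈ K) {β γ : F} (e : 0 * 0 - β * γ ≠ 0) (h3 : gl 0 β γ 0 e ∈ K) : K = ⊤ := by
  have b0 : β ≠ 0 := by rintro rfl; simp at e
  have c0 : γ ≠ 0 := by rintro rfl; simp at e
  have h4 : ∀ d : Fˣ, gl (d : F) 0 0 1 (by simp) ∈ K := fun d => by
    have := mul_mem (h2 d) (inv_mem h3)
    refine (mul_mem_cancel_right (inv_mem this)).1 ?_
    convert h3 using 1
    rw [_root_.mul_inv_rev, inv_inv, ← mul_assoc, mul_inv_eq_iff_eq_mul]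
    ext i j
    fin_cases i <;> fin_cases j <;> simp [gl, mul_comm]
  have h5 : ∀ A : GL (Fin 2) F, A 1 0 = 0 → A ∈ K := fun A hA => by
    have := A.det_ne_zero
    rw [Matrix.det_fin_two, hA, mul_zero, sub_zero] at this
    have a0 := left_ne_zero_of_mul this
    convert mul_mem (mul_mem (h4 (.mk0 _ a0)) (h2 (.mk0 _ (right_ne_zero_of_mul this)))) (h1 (A 0 1 / A 0 0))
    ext i j
    fin_cases i <;> fin_cases j <;> simp [gl, hA]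
    field_simp
  refine eq_top_iff.2 fun A _ => by_contra fun n => n ?_
  have hA : A 1 0 ≠ 0 := fun e => n (h5 A e)
  refine (mul_mem_cancel_left (mul_mem h3 (h1 (-A 0 0 / A 1 0)))).1 (h5 _ ?_)
  simp [gl, Matrix.mul_apply, Matrix.vecMul, dotProduct]
  field_simp
  ring

variable [Fintype F] [Finite G]

structure Hd (φ : Jc F →* G) (c : F) (Y : Subgroup G) : Prop extends Hc φ where
  cc : ∀ d : Fˣ, c * d ^ 2 = c
  om : Om φ Y
  mem : ∀ w, w ∈ Y ↔ ∃ b, mv φ c b 0 0 = w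
  all : ∀ Y', Om φ Y' → Y' = Z0.map φ ∨ ∃ y, φ (uu y) ⋆ Y = Y'

variable (p : ℕ) [hp : Fact p.Prime] [CharP F p]

theorem Hy.conj_Z (h : Hy φ) (Q : Sylow p G) (h1 : w ∈ Q.1) (h2 : ∀ y ∈ Q.1, y * w = w * y) :
    ∃ g, g * w * g⁻¹ ∈ Z0.map φ := by
  obtain ⟨g, -, e⟩ := (Syl.of_sylow_top Q).exists_conj_eq (h.syl p)
  exact ⟨g, h.ZP.le (mem_inf.2 ⟨e ▸ conj_mem_conj.2 h1, by
    rw [e, ← conj_centralizer]; exact conj_mem_conj.2 (mem_cent.2 h2)⟩)⟩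

theorem Hy.hc (h : Hy φ) (h4 : Fintype.card F % 4 = 3) {u v : G} {Q R : Sylow p G} (u1 : u ≠ 1) (v1 : v ≠ 1)
    (h1 : u ∈ Q.1) (h2 : ∀ y ∈ Q.1, y * u = u * y) (h3 : v ∈ R.1) (h5 : ∀ y ∈ R.1, y * v = v * y)
    (n : ¬ IsConj u v) : Hc φ := ⟨h, h4, fun k => by
  have k' : ∀ (u : G) (Q : Sylow p G), u ≠ 1 → u ∈ Q.1 → (∀ y ∈ Q.1, y * u = u * y) →
      IsConj (φ (mm 0 0 1)) u := fun u Q h1 h2 h3 => by
    obtain ⟨g, e⟩ := h.conj_Z p Q h2 h3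
    obtain ⟨s, e'⟩ := mem_Z.1 e
    exact (k s (by rintro rfl; exact cj_ne h1 (e'.symm.trans (map_one φ)))).trans
      (isConj_iff.2 ⟨g, e'.symm⟩).symm
  exact n ((k' u Q u1 h1 h2).symm.trans (k' v R v1 h3 h5))⟩

include p in
theorem Hc.exists_hd (h : Hc φ) (hn : n ∈ 𝐍(M0.map φ)) (h1 : n ∉ 𝐍(Z0.map φ)) : ∃ c Y, Hd φ c Y := by
  obtain ⟨-, Y, a, hY, -⟩ := h.exists_fx (Om.Z.conj hn) fun e => h1 (norm_of_conj_eq e)
  obtain ⟨x, c, hw⟩ := h.bsurj a.1 hY 1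
  obtain rfl := h.fx_x a hw
  have f : ∀ d : Fˣ, φ (hh d) ⋆ Y = Y := fun d => h.fx_uniq p
    (a.conj (Hy.nM (hB d)) (by rw [← map_mul, ← tt_hh, map_mul]))
    (fun e => hY (conj_inj.1 (e.trans (fixZ _).symm))) a hY
  have cc : ∀ d : Fˣ, c * d ^ 2 = c := fun d => by
    by_cases e : (d : F) ^ 2 = 1
    · rw [e, mul_one]
    · rw [(h.binj a.1 hY hw (h.y_mem hY a e (f d))).2, zero_mul]
  have m : ∀ b, mv φ c b 0 0 ∈ Y := fun b => by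
    have k : ∀ d : Fˣ, mv φ c (d ^ 2) 0 0 ∈ Y := fun d => by
      have := f d ▸ cj_mem (hh d) hw
      rw [hh_mm] at this
      simpa [mv, cc] using this
    rcases eq_or_ne b 0 with rfl | hb
    · rw [mv_z, mm_zero, map_one]; exact one_mem _
    obtain ⟨d, rfl | rfl⟩ := sq_or h.four hb
    · exact k d
    · simpa [mv_inv] using inv_mem (k d)
  refine ⟨c, Y, h, cc, a.1, fun w => ⟨fun hw => ?_, fun ⟨b, e⟩ => e ▸ m b⟩, fun Y' a' => ?_⟩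
  · obtain ⟨b, x, s, rfl⟩ := a.1.ex hw
    obtain ⟨rfl, rfl⟩ := h.binj a.1 hY hw (m b)
    exact ⟨b, rfl⟩
  · refine or_iff_not_imp_left.2 fun e => ?_
    obtain ⟨y, Y'', a1, a2, e'⟩ := h.exists_fx a' e
    exact ⟨y, h.fx_uniq p a1 a2 a hY ▸ e'⟩

namespace Hd

variable (h : Hd φ c Y)
include h

omit [Finite G]

theorem mv_h (d : Fˣ) (b x s : F) : φ (hh d) * mv φ c b x s * (φ (hh d))⁻¹ = mv φ c (d ^ 2 * b) (d * x) s := by
  rw [mv, mv, map_cj, hh_mm, ← mul_assoc, h.cc]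

theorem ne : Y ≠ Z0.map φ := fun e => by
  obtain ⟨s, e'⟩ := mem_Z.1 (e ▸ (h.mem _).2 ⟨1, rfl⟩)
  exact one_ne_zero (h.m_inj e').1.symm

theorem not_neg {d : Fˣ} (e : IsConj (mv φ c 1 0 0) (mv φ c (-d ^ 2) 0 0)) : False := by
  refine h.nall h.om (w := mv φ c 1 0 0) fun v hv v1 => ?_
  obtain ⟨b, rfl⟩ := (h.mem v).1 hv
  obtain ⟨e', rfl | rfl⟩ := sq_or h.four (b := b) (by rintro rfl; exact v1 (by rw [mv_z, mm_zero, map_one]))
  · exact isConj_iff.2 ⟨_, by rw [h.mv_h e']; simp⟩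
  · exact e.trans (isConj_iff.2 ⟨_, by rw [h.mv_h (e' / d)]; simp [div_pow]⟩)

theorem fx : φ tt ∈ 𝐂(Y) := mem_cent.2 fun w hw => by
  obtain ⟨b, rfl⟩ := (h.mem w).1 hw
  exact (of_cj (by rw [mv_t, neg_zero])).symm

omit h in
theorem rl_u (y : F) : Rl φ c (φ (uu y)) 1 (-y) 0 1 := fun b x s => by
  rw [mv_P (k := uu y) ⟨rfl, rfl, rfl⟩]; congr 1 <;> simp [uu] <;> ring

theorem rl_h (d : Fˣ) : Rl φ c (φ (hh d)) 1 0 0 d := fun b x s => by rw [h.mv_h]; simp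

variable [Finite G]

include p in
theorem rl_H (h1 : n ∈ 𝐍(M0.map φ)) (h2 : n ∈ 𝐍(Z0.map φ)) (h3 : n ∈ 𝐍(Y)) :
    ∃ e d : F, e * d - 0 * 0 ≠ 0 ∧ Rl φ c n e 0 0 d := by
  have w1 : mv φ c 1 0 0 ≠ 1 := h.m_ne (.inl one_ne_zero)
  obtain ⟨β, e⟩ := (h.mem _).1 (conj_mem_of_norm h3 ((h.mem _).2 ⟨1, rfl⟩))
  obtain ⟨d, rfl | rfl⟩ := sq_or h.four (b := β) (by
    rintro rfl; exact cj_ne w1 (by rw [← e, mv_z, mm_zero, map_one]))
  swap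
  · exact (h.not_neg (isConj_iff.2 ⟨n, e.symm⟩)).elim
  suffices ∃ e : F, e ≠ 0 ∧ Rl φ c ((φ (hh d))⁻¹ * n) e 0 0 1 by
    obtain ⟨e, e0, r⟩ := this
    refine ⟨e, d, by simp [e0], fun b x s => ?_⟩
    rw [← mul_inv_cancel_left (φ (hh d)) n, _root_.mul_inv_rev, ← mul_assoc, mul_assoc (φ _), mul_assoc (φ _), r,
      h.mv_h]
    congr 1 <;> ring
  have c1 := h.ocen h.om ((h.mem _).2 ⟨1, rfl⟩) w1 (g := (φ (hh d))⁻¹ * n) (of_cj (by
    rw [_root_.mul_inv_rev, ← mul_assoc, mul_assoc _ n, mul_assoc _ (n * _), ← e, ← map_inv,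
      show (hh d)⁻¹ = hh d⁻¹ by rw [inv_eq_iff_mul_eq_one, hh_mul, mul_inv_cancel, hh_one], h.mv_h]
    simp))
  have m1 := mul_mem (inv_mem (Hy.nM (hB d))) h1
  have m2 := mul_mem (inv_mem (nZ (hh d))) h2
  generalize (φ (hh d))⁻¹ * n = n at c1 m1 m2
  have c2 : ∀ b, n * mv φ c b 0 0 * n⁻¹ = mv φ c b 0 0 := fun b =>
    cj_of (mem_cent.1 c1 _ ((h.mem _).2 ⟨b, rfl⟩)).symm
  have k : ∀ y, ∃ l, ∀ b, n * mv φ c 0 (-(b * y)) (b * y ^ 2) * n⁻¹ = mv φ c 0 (-(b * l)) (b * l ^ 2) := fun y => by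
    obtain ⟨k, hk, e⟩ := conj_mem_of_norm (h.nP p m1 m2) (mem_map_of_mem φ (show uu y ∈ P0 from ⟨rfl, rfl, rfl⟩))
    refine ⟨k.y, fun b => ?_⟩
    have e1 := mv_P (φ := φ) (c := c) hk b 0 0
    rw [← c2 b, e, conj_mul, conj_inv, conj_mul, rl_u] at e1
    exact cjm e1 (c2 (-b))
  obtain ⟨l, k1⟩ := k 1
  obtain ⟨l', k2⟩ := k (-1)
  have k3 : ∀ b, n * mv φ c 0 0 (2 * b) * n⁻¹ = mv φ c 0 (-(b * (l + l'))) (b * (l ^ 2 + l' ^ 2)) := fun b =>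
    cjm (k1 b) (k2 b)
  obtain rfl : l' = -l := by
    obtain ⟨s, e⟩ := mem_Z.1 (conj_mem_of_norm m2 (z_mem (2 * 1)))
    rw [← mv_z (c := c), ← mv_z (c := c), k3] at e
    linear_combination (h.mv_inj e).2.1
  have := h.two
  have k4 : ∀ s, n * mv φ c 0 0 s * n⁻¹ = mv φ c 0 0 (l ^ 2 * s) := fun s => by
    have := k3 (s / 2)
    rwa [show 2 * (s / 2) = s by field_simp, add_neg_cancel, mul_zero, neg_zero,
      show s / 2 * (l ^ 2 + (-l) ^ 2) = l ^ 2 * s by field_simp; ring] at this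
  refine ⟨l, fun e => ?_, .of (by simpa using c2) (fun x => ?_) (by simpa using k4)⟩
  · have := k4 1
    rw [e, zero_pow two_ne_zero, zero_mul, mv_z, mv_z, mm_zero, map_one] at this
    exact cj_ne (h.m_ne (.inr (.inr one_ne_zero))) this
  · exact cjm (k1 (-x)) (k4 x)

include p in
theorem rl_W : ∃ n ∈ 𝐍(M0.map φ), n ⋆ Z0.map φ = Y ∧ ∃ β γ : F, 0 * 0 - β * γ ≠ 0 ∧ Rl φ c n 0 β γ 0 := by
  obtain ⟨n, hn, e1, e2⟩ : ∃ n ∈ 𝐍(M0.map φ), n ⋆ Z0.map φ = Y ∧ n ⋆ Y = Z0.map φ := by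
    obtain ⟨n, hn, e⟩ := h.om
    rcases h.all _ (Om.Z.conj (inv_mem hn)) with e' | ⟨y, e'⟩
    · exact (h.ne (by rw [← e, ← e', conj_inv_conj, e'])).elim
    · exact ⟨_, mul_mem hn (Hy.nM (uB y)), by rw [← conj_conj, fixZ, e], by rw [← conj_conj, e', conj_inv_conj]⟩
  choose σ hσ using fun s => (h.mem _).1 (e1 ▸ conj_mem_conj.2 (z_mem s))
  choose ρ hρ using fun b => mem_Z.1 (e2 ▸ conj_mem_conj.2 ((h.mem _).2 ⟨b, rfl⟩))
  simp only [← mv_z (c := c)] at hσ hρ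
  have σa : ∀ s s', σ (s + s') = σ s + σ s' := fun s s' =>
    (h.mv_inj ((hσ _).trans (cjm (x' := 0) (s' := 0) (hσ s).symm (hσ s').symm))).1
  have σ0 : ∀ s, s ≠ 0 → σ s ≠ 0 := fun s hs e => cj_ne (g := n) (h.m_ne (.inr (.inr hs))) (by
    rw [← mv_z (c := c), ← hσ, e, mv_z, mm_zero, map_one])
  have tZ : φ tt ∈ 𝐂(Z0.map φ) := C_le_cZ ⟨_, rfl⟩
  have k : ∀ A B : Subgroup G, n ⋆ A = B → φ tt ∈ 𝐂(A) → n * φ tt * n⁻¹ ∈ 𝐂(B) := fun A B e m => by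
    rw [← e, ← conj_centralizer]; exact conj_mem_conj.2 m
  have mt := mul_mem (mul_mem hn (Hy.nM (φ := φ) tB)) (inv_mem hn)
  obtain ⟨e, d, -, r⟩ := h.rl_H p mt (cent_le_norm _ (k _ _ e2 h.fx)) (cent_le_norm _ (k _ _ e1 tZ))
  have f1 : e ^ 2 = 1 := by
    have := r 0 0 1
    rw [cj_of (mem_cent.1 (k _ _ e2 h.fx) _ (mv_z (φ := φ) (c := c) 1 ▸ z_mem 1)).symm] at this
    linear_combination -(h.mv_inj this).2.2
  have f2 : d ^ 2 = 1 := by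
    have := r 1 0 0
    rw [cj_of (mem_cent.1 (k _ _ e1 tZ) _ ((h.mem _).2 ⟨1, rfl⟩)).symm] at this
    linear_combination -(h.mv_inj this).1
  have hX : ∀ x, ∃ x', n * mv φ c 0 x 0 * n⁻¹ = mv φ c 0 x' 0 := fun x => by
    obtain ⟨b', x', s', e'⟩ := mv_ex c (conj_mem_of_norm hn (mv_mem (c := c) 0 x 0))
    have := r b' x' s'
    rw [e', conj_mul, conj_inv, conj_mul, mv_t, show mv φ c 0 (-x) 0 = (mv φ c 0 x 0)⁻¹ by simp [mv_inv],
      ← conj_inv, ← e', mv_inv, f1, f2] at this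
    obtain ⟨a1, -, a2⟩ := h.mv_inj this
    obtain rfl : b' = 0 := mul_left_cancel₀ h.two (by linear_combination -a1)
    obtain rfl : s' = 0 := mul_left_cancel₀ h.two (by linear_combination -a2)
    exact ⟨x', e'.symm⟩
  choose χ hχ using hX
  have hτ : ∀ y, y ≠ 0 → ∃ τ, ∀ b, χ (-(b * y)) = -(σ (b * y ^ 2) * τ) ∧ ρ b = σ (b * y ^ 2) * τ ^ 2 := fun y hy => by
    have m : ∀ b, mv φ c (σ (b * y ^ 2)) (χ (-(b * y))) (ρ b) ∈ n ⋆ φ (uu y) ⋆ Y := fun b => by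
      have := conj_mem_conj (g := n) |>.2 (conj_mem_conj (g := φ (uu y)) |>.2 ((h.mem _).2 ⟨b, rfl⟩))
      rwa [rl_u, cjm (cjm (b := b) (x := -(b * y)) (s := 0) (b' := 0) (x' := χ (-(b * y))) (s' := ρ b)
        (hρ b).symm (hχ (-(b * y)))) (hσ (b * y ^ 2)).symm] at this
    rcases h.all _ ((h.om.conj (Hy.nM (uB y))).conj hn) with e | ⟨τ, e⟩
    · obtain ⟨s, e'⟩ := mem_Z.1 (e ▸ m 1)
      exact (σ0 _ (by simpa using hy) (h.m_inj e').1.symm).elim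
    refine ⟨τ, fun b => ?_⟩
    obtain ⟨w, hw, e'⟩ := e ▸ m b
    obtain ⟨b', rfl⟩ := (h.mem w).1 hw
    obtain ⟨a1, a2, a3⟩ := h.mv_inj ((rl_u τ b' 0 0).symm.trans e')
    exact ⟨by rw [← a1, ← a2]; ring, by rw [← a1, ← a3]; ring⟩
  obtain ⟨τ, hτ1⟩ := hτ 1 one_ne_zero
  simp only [mul_one, one_pow] at hτ1
  have σn : ∀ s, σ (-s) = -σ s := fun s => map_neg (AddMonoidHom.mk' σ σa) s
  have c1 := σ0 1 one_ne_zero
  have τ0 : τ ≠ 0 := by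
    rintro rfl
    have := hχ (-1)
    rw [(hτ1 1).1, mul_zero, neg_zero, mv_z, mm_zero, map_one] at this
    exact cj_ne (h.m_ne (.inr (.inl (neg_ne_zero.2 one_ne_zero)))) this
  have σm : ∀ y b, σ (b * y) * σ 1 = σ b * σ y := fun y b => by
    rcases eq_or_ne y 0 with rfl | hy
    · simp [show σ 0 = 0 from map_zero (AddMonoidHom.mk' σ σa)]
    obtain ⟨τ', h'⟩ := hτ y hy
    have k : ∀ b, σ b * τ = σ (b * y) * τ' := fun b => by
      have := (h' (b / y)).1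
      rw [div_mul_cancel₀ _ hy, (hτ1 b).1, show b / y * y ^ 2 = b * y by field_simp] at this
      linear_combination -this
    have k1 := k 1
    rw [one_mul] at k1
    exact mul_right_cancel₀ τ0 (by linear_combination σ (b * y) * k1 - σ y * k b)
  have σ2 : ∀ s, σ (σ s / σ 1) = σ 1 * s := by
    obtain ⟨e', d', e0, r'⟩ := h.rl_H p (mul_mem hn hn) (norm_of_conj_eq (by rw [← conj_conj, e1, e2]))
      (norm_of_conj_eq (by rw [← conj_conj, e2, e1]))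
    have k : ∀ s, σ (σ s) * τ ^ 2 = e' ^ 2 * s := fun s => by
      have := r' 0 0 s
      rw [_root_.mul_inv_rev, ← mul_assoc, mul_assoc n, mul_assoc n, ← hσ, ← hρ, (hτ1 _).2] at this
      linear_combination (h.mv_inj this).2.2
    intro s
    have k1 := σm (σ s / σ 1) (σ 1)
    rw [mul_div_cancel₀ _ c1] at k1
    refine mul_left_cancel₀ (pow_ne_zero 2 (left_ne_zero_of_mul (b := d') (by simpa using e0))) ?_
    linear_combination σ 1 * k s - σ (σ s / σ 1) * k 1 - τ ^ 2 * k1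
  have σ1 : ∀ s, σ s = σ 1 * s := fun s => by
    by_contra ne
    have b0 : s - σ s / σ 1 ≠ 0 := fun e => ne (by rw [sub_eq_zero.1 e, σ2, ← sub_eq_zero.1 e])
    have e : σ (s - σ s / σ 1) = -(σ 1 * (s - σ s / σ 1)) := by
      rw [sub_eq_add_neg, σa, σn, σ2]; field_simp; ring
    obtain ⟨d, e' | e'⟩ := sq_or h.four b0
    · rw [e', sq] at e
      exact σ0 _ d.ne_zero (not_neg_sq h.four (b := σ 1 * d) (by linear_combination σ 1 * e - σm d d))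
    · rw [e', σn, sq] at e
      exact σ0 _ d.ne_zero (not_neg_sq h.four (b := σ 1 * d) (by linear_combination -σ 1 * e - σm d d))
  obtain ⟨γ, e | e⟩ := sq_or h.four c1
  swap
  · refine (h.not_neg (d := γ) (isConj_iff.2 ⟨(φ (uu τ))⁻¹ * (n * φ (uu 1)), ?_⟩)).elim
    rw [← e, _root_.mul_inv_rev, ← mul_assoc, mul_assoc _ (n * _), mul_assoc _ (n * _ * _), _root_.mul_inv_rev,
      ← mul_assoc (n * _ * _), mul_assoc n, mul_assoc n, rl_u, cjm (cjm (b := 1) (x := -1) (s := 0) (b' := 0)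
        (x' := χ (-1)) (s' := ρ 1) (hρ 1).symm (hχ (-1))) (hσ 1).symm (b' := σ 1) (x' := χ (-1)) (s' := ρ 1),
      inv_inv, mul_assoc, inv_mul_eq_iff_eq_mul, ← eq_mul_inv_iff_mul_eq, rl_u, (hτ1 1).1, (hτ1 1).2]
    congr 1 <;> ring
  refine ⟨n, hn, e1, τ * γ, γ, by simp [τ0], .of (fun b => ?_) (fun x => ?_) fun s => ?_⟩
  · rw [← hρ, (hτ1 b).2, σ1, e]; congr 1 <;> ring
  · rw [hχ, ← neg_neg x, (hτ1 _).1, σ1, e]; congr 1 <;> ring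
  · rw [← hσ, σ1, e]; congr 1 <;> ring

include p in
theorem exists_gl (hn : n ∈ 𝐍(M0.map φ)) : ∃ A, (n, A) ∈ Gam φ c := by
  have k : ∀ n ∈ 𝐍(M0.map φ), n ⋆ Z0.map φ = Z0.map φ → n ∈ (Gam φ c).map (.fst _ _) := fun n hn e => by
    obtain ⟨y, e'⟩ := (h.all _ (h.om.conj hn)).resolve_left fun e' => h.ne (conj_inj.1 (e'.trans e.symm))
    obtain ⟨a, d, e0, r⟩ := h.rl_H p (mul_mem (inv_mem (Hy.nM (uB y))) hn)
      (mul_mem (inv_mem (nZ _)) (norm_of_conj_eq e)) (norm_of_conj_eq (by rw [← conj_conj, ← e', inv_conj_conj]))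
    exact ⟨_, mul_mem ((rl_u y).mem (by simp)) (r.mem e0), by simp⟩
  suffices n ∈ (Gam φ c).map (.fst _ _) from let ⟨v, hv, e⟩ := this; ⟨v.2, by rw [← e]; exact hv⟩
  rcases h.all _ (Om.Z.conj hn) with e | ⟨y, e⟩
  · exact k n hn e
  obtain ⟨w, hw, e', β, γ, e0, r⟩ := h.rl_W p
  have m := mul_mem (Hy.nM (uB y)) hw
  exact (mul_mem_cancel_left (inv_mem (mem_map_of_mem (.fst _ _) (mul_mem ((rl_u y).mem (by simp)) (r.mem e0))))).1
    (k _ (mul_mem (inv_mem m) hn) (by rw [← conj_conj, ← e, ← e', conj_conj, conj_conj, mul_assoc, inv_mul_cancel, conj_one]))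

include p in
theorem exists_n (A : GL (Fin 2) F) : ∃ n, (n, A) ∈ Gam φ c := by
  obtain ⟨w, -, -, β, γ, e0, r⟩ := h.rl_W p
  obtain ⟨v, hv, rfl⟩ := (gl_top (K := (Gam φ c).map (.snd _ _)) (fun y => ⟨_, Rl.mem (neg_neg y ▸ rl_u (-y)) (by simp), rfl⟩)
    (fun d => ⟨_, (h.rl_h d).mem (by simp), rfl⟩) e0 ⟨_, r.mem e0, rfl⟩).ge (mem_top A)
  exact ⟨v.1, hv⟩

omit h [Fintype F] in
theorem norm_of {A : GL (Fin 2) F} (e : (n, A) ∈ Gam φ c) : n ∈ 𝐍(M0.map φ) :=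
  mem_normalizer_of_conj_le (conj_le_iff.2 fun _ hx => by
    obtain ⟨b, x, s, rfl⟩ := mv_ex c hx
    rw [mem_Gam.1 e]
    exact mv_mem ..)

omit [Finite G] in
theorem mem_iff {A : GL (Fin 2) F} (e : (n, A) ∈ Gam φ c) : n ∈ M0.map φ ↔ A = 1 ∨ A = -1 := by
  refine ⟨fun m => ?_, fun a => h.cM (mem_cent.2 fun _ hx => ?_)⟩
  · have k := fun b x s => h.mv_inj ((cj_of (M_comm m (mv_mem b x s))).symm.trans (mem_Gam.1 e b x s))
    have a1 := k 0 0 1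
    have a2 := k 1 0 0
    have a3 := (k 0 1 0).2.1
    simp [eq_comm (a := (0 : F))] at a1 a2 a3
    rw [a1.1, mul_zero, add_zero] at a3
    have a4 : A 1 1 = A 0 0 := by linear_combination A 1 1 * a1.2.2 - A 0 0 * a3
    refine (sq_eq_one_iff.1 a1.2.2.symm).imp (fun a => ?_) fun a => ?_ <;> ext i j <;>
      fin_cases i <;> fin_cases j <;> simp [a, a4, a1.1, a2.2.2]
  · obtain ⟨b, x, s, rfl⟩ := mv_ex c hx
    refine (of_cj ?_).symm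
    rcases a with rfl | rfl <;> simpa using mem_Gam.1 e b x s

end Hd

end Cfsg.Lib.Hay
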