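import Cfsg.Agent.Lib.Symp.Group
import Cfsg.Agent.Lib.BG.Hall

/-! The stabilizer of a vector in `Sp₄(F)` in coordinates. -/

set_option autoImplicit false

namespace Cfsg.Lib.Hay

open Subgroup Matrix Cfsg.Lib.BG Cfsg.Lib.Transfer Cfsg.Lib.Symp
open scoped MatrixGroups

@[ext] structure Jc (F : Type*) [Field F] where
  a : F
  b : F
  c : F
  d : F
  x : F
  y : F
  s : F
  det : a * d - b * c = 1

variable {F : Type*} [Field F]

namespace Jc

instance jcMul : Mul (Jc F) := ⟨fun g h => ⟨g.a * h.a + g.b * h.c, g.a * h.b + g.b * h.d, g.c * h.a + g.d * h.c,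
  g.c * h.b + g.d * h.d, g.x + (g.a * h.x + g.b * h.y), g.y + (g.c * h.x + g.d * h.y),
  g.s + h.s + (g.x * (g.c * h.x + g.d * h.y) - g.y * (g.a * h.x + g.b * h.y)),
  by linear_combination (h.a * h.d - h.b * h.c) * g.det + h.det⟩⟩

instance jcOne : One (Jc F) := ⟨⟨1, 0, 0, 1, 0, 0, 0, by simp⟩⟩

instance jcInv : Inv (Jc F) := ⟨fun g => ⟨g.d, -g.b, -g.c, g.a, g.b * g.y - g.d * g.x, g.c * g.x - g.a * g.y, -g.s,
  by linear_combination g.det⟩⟩

variable (g h : Jc F)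

@[simp] theorem mul_a : (g * h).a = g.a * h.a + g.b * h.c := rfl
@[simp] theorem mul_b : (g * h).b = g.a * h.b + g.b * h.d := rfl
@[simp] theorem mul_c : (g * h).c = g.c * h.a + g.d * h.c := rfl
@[simp] theorem mul_d : (g * h).d = g.c * h.b + g.d * h.d := rfl
@[simp] theorem mul_x : (g * h).x = g.x + (g.a * h.x + g.b * h.y) := rfl
@[simp] theorem mul_y : (g * h).y = g.y + (g.c * h.x + g.d * h.y) := rfl
@[simp] theorem mul_s : (g * h).s =
    g.s + h.s + (g.x * (g.c * h.x + g.d * h.y) - g.y * (g.a * h.x + g.b * h.y)) := rfl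
@[simp] theorem one_a : (1 : Jc F).a = 1 := rfl
@[simp] theorem one_b : (1 : Jc F).b = 0 := rfl
@[simp] theorem one_c : (1 : Jc F).c = 0 := rfl
@[simp] theorem one_d : (1 : Jc F).d = 1 := rfl
@[simp] theorem one_x : (1 : Jc F).x = 0 := rfl
@[simp] theorem one_y : (1 : Jc F).y = 0 := rfl
@[simp] theorem one_s : (1 : Jc F).s = 0 := rfl
@[simp] theorem inv_a : g⁻¹.a = g.d := rfl
@[simp] theorem inv_b : g⁻¹.b = -g.b := rfl
@[simp] theorem inv_c : g⁻¹.c = -g.c := rfl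
@[simp] theorem inv_d : g⁻¹.d = g.a := rfl
@[simp] theorem inv_x : g⁻¹.x = g.b * g.y - g.d * g.x := rfl
@[simp] theorem inv_y : g⁻¹.y = g.c * g.x - g.a * g.y := rfl
@[simp] theorem inv_s : g⁻¹.s = -g.s := rfl

instance jcGroup : Group (Jc F) := Group.ofLeftAxioms
  (fun g h k => by
    ext <;> simp only [mul_a, mul_b, mul_c, mul_d, mul_x, mul_y, mul_s]
    any_goals ring1
    linear_combination (h.x * (h.c * k.x + h.d * k.y) - h.y * (h.a * k.x + h.b * k.y)) * g.det)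
  (fun g => by ext <;> simp)
  (fun g => by
    have := g.det
    ext <;> simp
    any_goals ring1
    · linear_combination this
    · linear_combination this)

def mm (b x s : F) : Jc F := ⟨1, b, 0, 1, x, 0, s, by simp⟩
def qq (x y s : F) : Jc F := ⟨1, 0, 0, 1, x, y, s, by simp⟩
def uu (y : F) : Jc F := ⟨1, 0, 0, 1, 0, y, 0, by simp⟩
def hh (d : Fˣ) : Jc F := ⟨d, 0, 0, (d : F)⁻¹, 0, 0, 0, by simp⟩
def tt : Jc F := ⟨-1, 0, 0, -1, 0, 0, 0, by simp⟩

def ll : SL(2, F) →* Jc F where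
  toFun A := ⟨A 0 0, A 0 1, A 1 0, A 1 1, 0, 0, 0, by rw [← det_fin_two]; exact A.det_coe⟩
  map_one' := by ext <;> simp
  map_mul' A B := by ext <;> simp [Matrix.mul_apply]

def pr : Jc F →* SL(2, F) where
  toFun g := ⟨!![g.a, g.b; g.c, g.d], by simpa [det_fin_two] using g.det⟩
  map_one' := by ext i j; fin_cases i <;> fin_cases j <;> simp
  map_mul' A B := Subtype.ext (by
    change _ = !![A.a, A.b; A.c, A.d] * !![B.a, B.b; B.c, B.d]
    simp)

theorem pr_ll (A : SL(2, F)) : pr (ll A) = A := by ext i j; fin_cases i <;> fin_cases j <;> rfl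

theorem ll_inj : Function.Injective (ll : SL(2, F) → Jc F) := Function.LeftInverse.injective pr_ll

theorem mm_mul (b x s b' x' s' : F) : mm b x s * mm b' x' s' = mm (b + b') (x + x') (s + s') := by
  ext <;> simp [mm, add_comm]
theorem mm_zero : mm (0 : F) 0 0 = 1 := rfl
theorem mm_inv (b x s : F) : (mm b x s)⁻¹ = mm (-b) (-x) (-s) := by ext <;> simp [mm]
theorem mm_inj {b x s b' x' s' : F} (h : mm b x s = mm b' x' s') : b = b' ∧ x = x' ∧ s = s' :=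
  ⟨congrArg Jc.b h, congrArg Jc.x h, congrArg Jc.s h⟩
theorem mm_pow (b x s : F) (n : ℕ) : mm b x s ^ n = mm (n * b) (n * x) (n * s) := by
  induction n with
  | zero => simp [mm_zero]
  | succ n ih => rw [pow_succ, ih, mm_mul]; push_cast; congr 1 <;> ring
theorem uu_mul (y y' : F) : uu y * uu y' = uu (y + y') := by ext <;> simp [uu]
theorem uu_zero : uu (0 : F) = 1 := rfl
theorem uu_inv (y : F) : (uu y)⁻¹ = uu (-y) := by ext <;> simp [uu]
theorem uu_mm (y b x s : F) : uu y * mm b x s * (uu y)⁻¹ = mm b (x - b * y) (s - 2 * x * y + b * y ^ 2) := by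
  ext <;> simp [uu, mm] <;> ring
theorem hh_mm (d : Fˣ) (b x s : F) : hh d * mm b x s * (hh d)⁻¹ = mm (d ^ 2 * b) (d * x) s := by
  ext <;> simp [hh, mm]
  ring
theorem hh_uu (d : Fˣ) (y : F) : hh d * uu y * (hh d)⁻¹ = uu ((d : F)⁻¹ * y) := by
  ext <;> simp [hh, uu]
theorem hh_mul (d e : Fˣ) : hh d * hh e = hh (d * e) := by ext <;> simp [hh, mul_comm]
theorem hh_one : hh (1 : Fˣ) = 1 := by ext <;> simp [hh]
theorem hh_neg : hh (-1 : Fˣ) = tt := by ext <;> simp [hh, tt]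
theorem tt_mm (b x s : F) : tt * mm b x s * tt⁻¹ = mm b (-x) s := by ext <;> simp [tt, mm]
theorem tt_tt : (tt : Jc F) * tt = 1 := by ext <;> simp [tt]
theorem tt_inv : (tt : Jc F)⁻¹ = tt := by ext <;> simp [tt]
theorem tt_hh (d : Fˣ) : tt * hh d = hh d * tt := by ext <;> simp [tt, hh]
theorem tt_ll (A : SL(2, F)) : tt * ll A = ll A * tt := by ext <;> simp [tt, ll]
theorem zz_comm (s : F) : g * mm 0 0 s = mm 0 0 s * g := by ext <;> simp [mm, add_comm]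

def Z0 : Subgroup (Jc F) where
  carrier := {g | ∃ s, g = mm 0 0 s}
  one_mem' := ⟨0, rfl⟩
  mul_mem' := by rintro _ _ ⟨s, rfl⟩ ⟨s', rfl⟩; exact ⟨s + s', by simp [mm_mul]⟩
  inv_mem' := by rintro _ ⟨s, rfl⟩; exact ⟨-s, by simp [mm_inv]⟩

def M0 : Subgroup (Jc F) where
  carrier := {g | ∃ b x s, g = mm b x s}
  one_mem' := ⟨0, 0, 0, rfl⟩
  mul_mem' := by rintro _ _ ⟨b, x, s, rfl⟩ ⟨b', x', s', rfl⟩; exact ⟨_, _, _, mm_mul ..⟩
  inv_mem' := by rintro _ ⟨b, x, s, rfl⟩; exact ⟨_, _, _, mm_inv ..⟩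

def B0 : Subgroup (Jc F) where
  carrier := {g | g.c = 0}
  one_mem' := rfl
  mul_mem' {g h} a b := by simp_all
  inv_mem' {g} a := by simp_all

def P0 : Subgroup (Jc F) where
  carrier := {g | g.a = 1 ∧ g.c = 0 ∧ g.d = 1}
  one_mem' := ⟨rfl, rfl, rfl⟩
  mul_mem' {g h} a b := by simp_all
  inv_mem' {g} a := by simp_all

def Q0 : Subgroup (Jc F) where
  carrier := {g | g.a = 1 ∧ g.b = 0 ∧ g.c = 0 ∧ g.d = 1}
  one_mem' := ⟨rfl, rfl, rfl, rfl⟩
  mul_mem' {g h} a b := by simp_all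
  inv_mem' {g} a := by simp_all

variable {g h}

theorem mem_B0 : g ∈ B0 ↔ g.c = 0 := Iff.rfl
theorem mem_P0 : g ∈ P0 ↔ g.a = 1 ∧ g.c = 0 ∧ g.d = 1 := Iff.rfl
theorem mem_Q0 : g ∈ Q0 ↔ g.a = 1 ∧ g.b = 0 ∧ g.c = 0 ∧ g.d = 1 := Iff.rfl
theorem mem_M0 : g ∈ M0 ↔ g.a = 1 ∧ g.c = 0 ∧ g.d = 1 ∧ g.y = 0 :=
  ⟨by rintro ⟨b, x, s, rfl⟩; simp [mm], fun ⟨h1, h2, h3, h4⟩ => ⟨g.b, g.x, g.s, by ext <;> simp [mm, *]⟩⟩
theorem mem_Z0 : g ∈ Z0 ↔ g.a = 1 ∧ g.b = 0 ∧ g.c = 0 ∧ g.d = 1 ∧ g.x = 0 ∧ g.y = 0 :=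
  ⟨by rintro ⟨s, rfl⟩; simp [mm], fun ⟨h1, h2, h3, h4, h5, h6⟩ => ⟨g.s, by ext <;> simp [mm, *]⟩⟩
theorem mm_mem (b x s : F) : mm b x s ∈ M0 := ⟨b, x, s, rfl⟩
theorem M0_le : (M0 : Subgroup (Jc F)) ≤ P0 := fun _ h => let ⟨a, b, c, _⟩ := mem_M0.1 h; ⟨a, b, c⟩
theorem P0_le : (P0 : Subgroup (Jc F)) ≤ B0 := fun _ h => h.2.1
theorem Z0_le : (Z0 : Subgroup (Jc F)) ≤ M0 := fun _ ⟨s, h⟩ => ⟨0, 0, s, h⟩

theorem B0.ad (h : g ∈ B0) : g.a * g.d = 1 := by have := g.det; rw [mem_B0.1 h] at this; simpa using this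

/-- the diagonal entry -/
def B0.u (h : g ∈ B0) : Fˣ := Units.mkOfMulEqOne _ _ (B0.ad h)

theorem B0.eq (h : g ∈ B0) : ∃ b x s y d, g = mm b x s * uu y * hh d := by
  have e := B0.ad h
  have a0 : g.a ≠ 0 := left_ne_zero_of_mul_eq_one e
  have e' : g.d = g.a⁻¹ := eq_inv_of_mul_eq_one_right e
  refine ⟨g.b * g.a, g.x - g.b * g.a * g.y, g.s - (g.x - g.b * g.a * g.y) * g.y, g.y, .mk0 _ a0, ?_⟩
  ext <;> simp [mm, uu, hh, mem_B0.1 h, e', a0]

theorem P0.eq (h : g ∈ P0) : ∃ b x s y, g = mm b x s * uu y := by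
  refine ⟨g.b, g.x - g.b * g.y, g.s - (g.x - g.b * g.y) * g.y, g.y, ?_⟩
  ext <;> simp [mm, uu, h.1, h.2.1, h.2.2]

theorem B0.conj (h : g ∈ B0) (b x s : F) : g * mm b x s * g⁻¹ =
    mm (g.a ^ 2 * b) (g.a * x - g.a ^ 2 * b * g.y)
      (s - 2 * (g.a * x) * g.y + g.a ^ 2 * b * g.y ^ 2) := by
  obtain ⟨b', x', s', y, d, rfl⟩ := B0.eq h
  have : ∀ b x s, mm b' x' s' * mm b x s * (mm b' x' s')⁻¹ = mm b x s := fun b x s => by
    simp [mm_mul, mm_inv]
  rw [show mm b' x' s' * uu y * hh d * mm b x s * (mm b' x' s' * uu y * hh d)⁻¹ =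
    mm b' x' s' * (uu y * (hh d * mm b x s * (hh d)⁻¹) * (uu y)⁻¹) * (mm b' x' s')⁻¹ by group,
    hh_mm, uu_mm, this]
  simp [mm, uu, hh]

theorem B0.pow (h : g ∈ B0) (n : ℕ) : (g ^ n).a = g.a ^ n := by
  induction n with
  | zero => simp
  | succ n ih => rw [pow_succ', mul_a, ih, mem_B0.1 (pow_mem h n), pow_succ']; ring

theorem c_of_conj (h : g * mm 1 0 0 * g⁻¹ ∈ B0) : g ∈ B0 := by
  have := mem_B0.1 h
  simp [mm] at this
  have e : g.c ^ 2 = 0 := by linear_combination -this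
  exact mem_B0.2 (by simpa using e)

def eM : F × F × F ≃ (M0 : Subgroup (Jc F)) where
  toFun v := ⟨_, mm_mem v.1 v.2.1 v.2.2⟩
  invFun g := (g.1.b, g.1.x, g.1.s)
  left_inv _ := rfl
  right_inv := by rintro ⟨_, b, x, s, rfl⟩; rfl

def eZ : F ≃ (Z0 : Subgroup (Jc F)) where
  toFun s := ⟨_, s, rfl⟩
  invFun g := g.1.s
  left_inv _ := rfl
  right_inv := by rintro ⟨_, s, rfl⟩; rfl

def eP : F × F × F × F ≃ (P0 : Subgroup (Jc F)) where
  toFun v := ⟨⟨1, v.1, 0, 1, v.2.1, v.2.2.1, v.2.2.2, by simp⟩, rfl, rfl, rfl⟩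
  invFun g := (g.1.b, g.1.x, g.1.y, g.1.s)
  left_inv _ := rfl
  right_inv := by rintro ⟨g, h1, h2, h3⟩; ext <;> simp [*]

theorem card_M0 : Nat.card (M0 : Subgroup (Jc F)) = Nat.card F ^ 3 := by
  rw [← Nat.card_congr eM]; simp [pow_succ, mul_assoc]
theorem card_Z0 : Nat.card (Z0 : Subgroup (Jc F)) = Nat.card F := (Nat.card_congr eZ).symm
theorem card_P0 : Nat.card (P0 : Subgroup (Jc F)) = Nat.card F ^ 4 := by
  rw [← Nat.card_congr eP]; simp [pow_succ, mul_assoc]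

instance jcFinite [Finite F] : Finite (Jc F) := .of_injective
  (fun g : Jc F => (g.a, g.b, g.c, g.d, g.x, g.y, g.s)) fun g h e => by
    simp only [Prod.mk.injEq] at e
    ext <;> simp [e]

variable (h2 : (2 : F) ≠ 0)
include h2

theorem cen_Q (h : ∀ x y, g * qq x y 0 = qq x y 0 * g) : g ∈ Z0 := by
  have e1 := h 1 0
  have e2 := h 0 1
  have a1 := congrArg Jc.x e1
  have a2 := congrArg Jc.y e1
  have a3 := congrArg Jc.s e1
  have a4 := congrArg Jc.x e2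
  have a5 := congrArg Jc.y e2
  have a6 := congrArg Jc.s e2
  simp [qq] at a1 a2 a3 a4 a5 a6
  have b1 : g.a = 1 := by linear_combination a1
  have b2 : g.d = 1 := by linear_combination a5
  rw [a2, b1] at a3
  rw [a4, b2] at a6
  exact mem_Z0.2 ⟨b1, a4, a2, b2, mul_left_cancel₀ h2 (by linear_combination a6),
    mul_left_cancel₀ h2 (by linear_combination -a3)⟩

theorem cen_P (hg : ∀ k ∈ P0, k * g = g * k) : g ∈ Z0 :=
  cen_Q h2 fun _ _ => (hg _ ⟨rfl, rfl, rfl⟩).symm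

omit h2 in
theorem cen_M (h1 : g * mm 1 0 0 = mm 1 0 0 * g) (h3 : g * mm 0 1 0 = mm 0 1 0 * g) : g ∈ M0 := by
  have hB : g ∈ B0 := c_of_conj (by rw [h1, mul_inv_cancel_right]; rfl)
  have e1 := B0.conj hB 1 0 0
  have e2 := B0.conj hB 0 1 0
  rw [h1, mul_inv_cancel_right] at e1
  rw [h3, mul_inv_cancel_right] at e2
  have a1 := (mm_inj e2).2.1
  have a2 := (mm_inj e1).2.1
  have a3 := B0.ad hB
  simp only [mul_one, mul_zero, zero_mul, sub_zero] at a1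
  rw [← a1] at a2 a3
  exact mem_M0.2 ⟨a1.symm, hB, by simpa using a3, by simpa using a2⟩

theorem M0_uniq [Finite F] {A : Subgroup (Jc F)} (h1 : A ≤ P0) (hc : ∀ a ∈ A, ∀ b ∈ A, a * b = b * a)
    (h3 : Nat.card F ^ 3 ≤ Nat.card A) : A = M0 := by
  have hF : 1 < Nat.card F := Finite.one_lt_card
  refine eq_of_le_of_card_le (fun g hg => by_contra fun n => ?_) (card_M0.trans_le h3)
  have hy : g.y ≠ 0 := fun e => n (mem_M0.2 ⟨(h1 hg).1, (h1 hg).2.1, (h1 hg).2.2, e⟩)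
  have := Nat.card_le_card_of_injective (fun k : A => (k.1.y, k.1.s)) fun k l e => by
    simp only [Prod.mk.injEq] at e
    have m := mul_mem k.2 (inv_mem l.2)
    have hk := h1 k.2
    have hl := h1 l.2
    obtain ⟨b, x, s, e'⟩ := mem_M0.2 (⟨(h1 m).1, (h1 m).2.1, (h1 m).2.2, by
      simp [hk.2.1, hk.2.2, hl.2.1, hl.1, e.1]⟩ : (k.1 * l.1⁻¹).a = 1 ∧ _)
    have c := B0.conj (P0_le (h1 hg)) b x s
    rw [← e', hc _ hg _ m, mul_inv_cancel_right, e', (h1 hg).1] at c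
    obtain ⟨-, c1, c2⟩ := mm_inj c
    have b0 : b = 0 := (mul_eq_zero.1 (by linear_combination c1 : b * g.y = 0)).resolve_right hy
    have x0 : x = 0 := by
      have : 2 * x * g.y = 0 := by linear_combination c2 + g.y ^ 2 * b0
      simpa [h2, hy] using this
    have e2 : k.1 = mm 0 0 s * l.1 := by rw [b0, x0] at e'; rw [← e']; group
    have e3 := congrArg Jc.s e2
    simp [mm, e.2] at e3
    rw [e3, mm_zero, one_mul] at e2
    exact Subtype.ext e2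
  rw [Nat.card_prod] at this
  have := h3.trans this
  nlinarith [Nat.pow_lt_pow_right hF (show 2 < 3 by omega)]

theorem inv_B0 (hg : g ∈ B0) (e : g * g = 1) (h1 : g ≠ 1) : ∃ x y, g = qq x y 0 * tt * (qq x y 0)⁻¹ := by
  have c0 := mem_B0.1 hg
  have ad := B0.ad hg
  have a1 := congrArg Jc.a e
  have a2 := congrArg Jc.b e
  have a3 := congrArg Jc.x e
  have a4 := congrArg Jc.y e
  have a5 := congrArg Jc.s e
  simp [c0] at a1 a2 a3 a4 a5
  have da : g.d = g.a := by linear_combination g.a * ad - g.d * a1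
  have b0 : g.b = 0 := by
    have : 2 * g.b = 0 := by rw [da] at a2; linear_combination g.a * a2 - 2 * g.b * a1
    simpa [h2] using this
  rw [da, b0] at a5
  rw [b0] at a3
  rw [da] at a4
  have s0 : g.s = 0 := by
    have : 2 * g.s = 0 := by linear_combination a5
    simpa [h2] using this
  rcases mul_self_eq_one_iff.1 a1 with a | a
  · refine (h1 ?_).elim
    rw [a] at a3 a4 da
    have x0 : g.x = 0 := mul_left_cancel₀ h2 (by linear_combination a3)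
    have y0 : g.y = 0 := mul_left_cancel₀ h2 (by linear_combination a4)
    ext <;> simp [*]
  · refine ⟨g.x / 2, g.y / 2, ?_⟩
    ext <;> simp [qq, tt, a, b0, c0, da, s0]
    all_goals field_simp; ring

theorem cen_tt (h : g * tt = tt * g) : g.x = 0 ∧ g.y = 0 := by
  have a1 := congrArg Jc.x h
  have a2 := congrArg Jc.y h
  simp [tt] at a1 a2
  exact ⟨mul_left_cancel₀ h2 (by linear_combination a1), mul_left_cancel₀ h2 (by linear_combination a2)⟩

theorem tt_ne : (tt : Jc F) ≠ 1 := fun e => h2 (by have := congrArg Jc.a e; simp [tt] at this; linear_combination -this)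

omit h2

variable {p : ℕ} [Fact p.Prime] [CharP F p]

theorem mem_P0_of_pow (h : g ∈ B0) {k : ℕ} (e : g ^ p ^ k = 1) : g ∈ P0 := by
  have a1 := B0.pow h (p ^ k)
  rw [e, one_a] at a1
  have a2 : (g.a - 1) ^ p ^ k = 0 := by rw [sub_pow_char_pow, ← a1]; simp
  have a3 := sub_eq_zero.1 (pow_eq_zero_iff (pow_ne_zero k (Fact.out : p.Prime).ne_zero) |>.1 a2)
  exact ⟨a3, h, by simpa [a3] using B0.ad h⟩

variable [Finite F]

theorem pgroup_P0 : IsPGroup p (P0 : Subgroup (Jc F)) := by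
  cases nonempty_fintype F
  obtain ⟨n, -, hn⟩ := FiniteField.card F p
  exact .of_card (n := n * 4) (by rw [card_P0, Nat.card_eq_fintype_card, hn, pow_mul])

theorem syl_P0 : Syl p (P0 : Subgroup (Jc F)) ⊤ :=
  Syl.of_norm_le (M := B0) (Syl.of_max P0_le pgroup_P0 fun Q hQ _ h g hg =>
    let ⟨_, e⟩ := hQ ⟨g, hg⟩
    mem_P0_of_pow (h hg) (congrArg Subtype.val e)) le_top fun _ hg =>
      c_of_conj (P0_le (conj_mem_of_norm hg.2 (M0_le (mm_mem ..))))

end Jc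

end Cfsg.Lib.Hay
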