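import Cfsg.Agent.Lib.Hay.Hy

/-! The conjugates of the centre `Z` inside `M`: there are `q + 1` of them. -/

set_option autoImplicit false

namespace Cfsg.Lib.Hay

open Subgroup Cfsg.Lib.BG Cfsg.Lib.Transfer Jc

variable {F G : Type*} [Field F] [Group G] {φ : Jc F →* G} {g n w : G} {k : Jc F} {b x s x' s' y : F}
  {Y Y' : Subgroup G}

def Om (φ : Jc F →* G) (Y : Subgroup G) : Prop := ∃ n ∈ 𝐍(M0.map φ), n ⋆ Z0.map φ = Y

theorem Om.Z : Om φ (Z0.map φ) := ⟨1, one_mem _, conj_one _⟩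
theorem Om.conj (h : Om φ Y) (hn : n ∈ 𝐍(M0.map φ)) : Om φ (n ⋆ Y) :=
  let ⟨m, hm, e⟩ := h; ⟨n * m, mul_mem hn hm, by rw [← conj_conj, e]⟩
theorem Om.le (h : Om φ Y) : Y ≤ M0.map φ := let ⟨_, hm, e⟩ := h; e ▸ conj_le_of_norm Z_le_M hm
theorem Om.ex (h : Om φ Y) (hw : w ∈ Y) : ∃ b x s, φ (mm b x s) = w := mem_M.1 (h.le hw)

theorem cj_mem (k : Jc F) (h : φ (mm b x s) ∈ Y) : φ (k * mm b x s * k⁻¹) ∈ φ k ⋆ Y :=
  map_cj φ k _ ▸ conj_mem_conj.2 h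

theorem m_div {b' : F} (h : φ (mm b x s) ∈ Y) (h' : φ (mm b' x' s') ∈ Y) : φ (mm (b - b') (x - x') (s - s')) ∈ Y := by
  have := mul_mem h (inv_mem h')
  rwa [← map_inv, ← map_mul, mm_inv, mm_mul, ← sub_eq_add_neg, ← sub_eq_add_neg, ← sub_eq_add_neg] at this

theorem uB (y : F) : uu y ∈ B0 := rfl
theorem hB (d : Fˣ) : hh d ∈ B0 := rfl
theorem tB : (tt : Jc F) ∈ B0 := rfl

structure Hc [Fintype F] (φ : Jc F →* G) : Prop extends Hy φ where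
  four : Fintype.card F % 4 = 3
  nc : ¬ ∀ s, s ≠ 0 → IsConj (φ (mm 0 0 1)) (φ (mm 0 0 s))

/-- the members of `Ω` centralized by `t` -/
def Fx (φ : Jc F →* G) (Y : Subgroup G) : Prop := Om φ Y ∧ φ tt ∈ 𝐂(Y)

theorem Fx.Z : Fx φ (Z0.map φ) := ⟨.Z, C_le_cZ ⟨_, rfl⟩⟩

theorem Fx.conj (a : Fx φ Y) (hn : n ∈ 𝐍(M0.map φ)) (c : n * φ tt = φ tt * n) : Fx φ (n ⋆ Y) :=
  ⟨a.1.conj hn, by rw [← conj_centralizer, ← cj_of c]; exact conj_mem_conj.2 a.2⟩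

namespace Hy

variable (h : Hy φ)
include h

theorem oti (a : Om φ Y) (a' : Om φ Y') (hw : w ∈ Y) (hw' : w ∈ Y') (h1 : w ≠ 1) : Y = Y' := by
  obtain ⟨n, -, rfl⟩ := a
  obtain ⟨n', -, rfl⟩ := a'
  exact h.ti' hw h1 hw'

theorem ocen (a : Om φ Y) (hw : w ∈ Y) (h1 : w ≠ 1) (c : g * w = w * g) : g ∈ 𝐂(Y) := by
  obtain ⟨n, -, rfl⟩ := a
  exact (h.cen' hw h1).le (mem_cent1.2 c)

theorem m_ne (hb : b ≠ 0 ∨ x ≠ 0 ∨ s ≠ 0) : φ (mm b x s) ≠ 1 := fun e => by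
  have := h.m_eq_one e; tauto

theorem fx_x (a : Fx φ Y) (hw : φ (mm b x s) ∈ Y) : x = 0 := by
  have := cj_of (mem_cent.1 a.2 _ hw).symm
  rw [map_cj, tt_mm] at this
  exact mul_left_cancel₀ h.two (by linear_combination -(h.m_inj this).2.1)

theorem fx_of (a : Om φ Y) (hw : φ (mm b 0 s) ∈ Y) (hb : b ≠ 0) : Fx φ Y :=
  ⟨a, h.ocen a hw (h.m_ne (.inl hb)) (of_cj (by rw [map_cj, tt_mm, neg_zero]))⟩

end Hy

variable [Fintype F] [Finite G]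

namespace Hc

variable (h : Hc φ)
include h

omit [Finite G] in
theorem nall (a : Om φ Y) (c : ∀ v ∈ Y, v ≠ 1 → IsConj w v) : False := by
  obtain ⟨n, -, rfl⟩ := a
  have k : ∀ s, s ≠ 0 → IsConj w (φ (mm 0 0 s)) := fun s hs =>
    (c _ (conj_mem_conj.2 (z_mem s)) (cj_ne (h.m_ne (.inr (.inr hs))))).trans (isConj_iff.2 ⟨n, rfl⟩).symm
  exact h.nc fun s hs => (k 1 one_ne_zero).symm.trans (k s hs)

theorem noW (a : Om φ Y) (hw : φ (mm 0 x s) ∈ Y) : x = 0 := by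
  by_contra hx
  have h1 := cj_mem (uu (s / (2 * x))) hw
  rw [uu_mm, show s - 2 * x * (s / (2 * x)) + 0 * (s / (2 * x)) ^ 2 = 0 by have := h.two; field_simp; ring,
    zero_mul, sub_zero] at h1
  have a1 := a.conj (Hy.nM (uB (s / (2 * x))))
  generalize φ (uu (s / (2 * x))) ⋆ Y = Y at h1 a1
  have e : φ tt ⋆ Y = Y := h.oti (a1.conj (Hy.nM tB)) a1 (cj_mem tt h1)
    (by simpa [tt_mm, ← map_inv, mm_inv] using inv_mem h1) (by rw [tt_mm]; exact h.m_ne (.inr (.inl (neg_ne_zero.2 hx))))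
  refine h.nall a1 (w := φ (mm 0 x 0)) fun v hv v1 => ?_
  obtain ⟨b', x', s', rfl⟩ := a1.ex hv
  have h2 := mul_mem hv (e ▸ cj_mem tt hv)
  rw [tt_mm, ← map_mul, mm_mul, add_neg_cancel] at h2
  have h3 : φ (mm (b' + b') 0 (s' + s')) = 1 := by_contra fun n => hx (h.fx_x
    ⟨a1, h.ocen a1 h2 n (of_cj (by rw [map_cj, tt_mm, neg_zero]))⟩ h1)
  obtain ⟨e1, -, e2⟩ := h.m_eq_one h3
  obtain rfl : b' = 0 := mul_left_cancel₀ h.two (by linear_combination e1)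
  obtain rfl : s' = 0 := mul_left_cancel₀ h.two (by linear_combination e2)
  have x0 : x' ≠ 0 := by rintro rfl; exact v1 (map_one φ)
  refine isConj_iff.2 ⟨φ (hh (.mk0 _ (div_ne_zero x0 hx))), ?_⟩
  rw [map_cj, hh_mm]
  simp [hx]

variable (a : Om φ Y) (hY : Y ≠ Z0.map φ)
include a hY

theorem binj (hw : φ (mm b x s) ∈ Y) (hw' : φ (mm b x' s') ∈ Y) : x = x' ∧ s = s' := by
  have h1 := m_div hw hw'
  rw [sub_self] at h1
  have e := h.noW a h1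
  rw [e] at h1
  exact ⟨sub_eq_zero.1 e, by_contra fun n => hY (h.oti a .Z h1 (z_mem _) (h.m_ne (.inr (.inr (sub_ne_zero.2 n)))))⟩

theorem bsurj (b : F) : ∃ x s, φ (mm b x s) ∈ Y := by
  choose f g k e using fun v : Y => a.ex v.2
  have i : Function.Injective f := fun v w e' => Subtype.ext (by
    obtain ⟨e1, e2⟩ := h.binj a hY (e v ▸ v.2) (e' ▸ e w ▸ w.2)
    rw [← e, ← e, e', e1, e2])
  obtain ⟨n, -, e'⟩ := id a
  obtain ⟨v, rfl⟩ := ((Nat.bijective_iff_injective_and_card f).2 ⟨i, by rw [← e', card_conj, h.card_Z]⟩).2 b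
  exact ⟨_, _, e v ▸ v.2⟩

theorem exists_fx : ∃ y Y', Fx φ Y' ∧ Y' ≠ Z0.map φ ∧ φ (uu y) ⋆ Y' = Y := by
  obtain ⟨x, s, hw⟩ := h.bsurj a hY 1
  have h1 := cj_mem (uu x) hw
  rw [uu_mm, one_mul, sub_self] at h1
  refine ⟨-x, _, h.fx_of (a.conj (Hy.nM (uB x))) h1 one_ne_zero, fun e => hY ?_, ?_⟩
  · rw [← inv_conj_conj (φ (uu x)) Y, e, ← map_inv, fixZ]
  · rw [conj_conj, ← map_mul, uu_mul, neg_add_cancel, uu_zero, map_one, conj_one]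

theorem y_of_fix (hk : k ∈ P0) (e : φ k ⋆ Y = Y) : k.y = 0 := by
  obtain ⟨x, s, hw⟩ := h.bsurj a hY 1
  have h1 := e ▸ cj_mem k hw
  rw [B0.conj (P0_le hk), hk.1] at h1
  simp only [one_pow, one_mul] at h1
  linear_combination (h.binj a hY h1 hw).1 * (-1)

omit a in
theorem y_of_fx (a : Fx φ Y) (a' : Fx φ (φ (uu y) ⋆ Y)) : y = 0 := by
  obtain ⟨x, s, hw⟩ := h.bsurj a.1 hY 1
  have h1 := cj_mem (uu y) hw
  rw [uu_mm, h.fx_x a hw] at h1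
  simpa using h.fx_x a' h1

omit hY in
theorem fx_of_norm (e : φ tt ⋆ Y = Y) : Fx φ Y := by
  by_cases hY : Y = Z0.map φ
  · exact hY ▸ .Z
  obtain ⟨x, s, hw⟩ := h.bsurj a hY 1
  have h1 := e ▸ cj_mem tt hw
  rw [tt_mm] at h1
  obtain rfl : x = 0 := mul_left_cancel₀ h.two (by linear_combination -(h.binj a hY h1 hw).1)
  exact h.fx_of a hw one_ne_zero

omit a in
theorem y_mem (a : Fx φ Y) {d : Fˣ} (hd : (d : F) ^ 2 ≠ 1) (e : φ (hh d) ⋆ Y = Y) : φ (mm 1 0 0) ∈ Y := by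
  obtain ⟨x, s, hw⟩ := h.bsurj a.1 hY ((d : F) ^ 2 - 1)⁻¹
  obtain rfl := h.fx_x a hw
  have h1 := e ▸ cj_mem (hh d) hw
  have := sub_ne_zero.2 hd
  rw [hh_mm] at h1
  simpa [show (d : F) ^ 2 * ((d : F) ^ 2 - 1)⁻¹ - ((d : F) ^ 2 - 1)⁻¹ = 1 by field_simp] using m_div h1 hw

omit a hY

theorem inv_conj (hn : n ∈ 𝐍(M0.map φ)) (e : n⁻¹ * φ tt * n ∈ φ.range) :
    ∃ x y, n⁻¹ * φ tt * n = φ (qq x y 0 * tt * (qq x y 0)⁻¹) := by
  obtain ⟨k, e⟩ := e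
  obtain ⟨x, y, e'⟩ := inv_B0 h.two (h.mem_B (e ▸ mul_mem (mul_mem (inv_mem hn) (Hy.nM tB)) hn)) (h.inj (by
    rw [map_mul, e, map_one]
    calc _ = n⁻¹ * φ (tt * tt) * n := by rw [map_mul]; group
      _ = 1 := by rw [tt_tt]; simp)) (by
    rintro rfl
    exact cj_ne' (fun e => tt_ne h.two (h.inj (e.trans (map_one φ).symm))) (e.symm.trans (map_one φ)))
  exact ⟨x, y, e' ▸ e.symm⟩

theorem fx_iff : Fx φ Y ↔ ∃ n ∈ 𝐍(M0.map φ) ⊓ 𝐂[φ tt], n ⋆ Z0.map φ = Y := by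
  refine ⟨fun ⟨⟨n, hn, e⟩, c⟩ => ?_, fun ⟨n, hn, e⟩ => e ▸ Fx.Z.conj hn.1 (mem_cent1.1 hn.2)⟩
  rw [← e, ← conj_centralizer, h.cZ] at c
  obtain ⟨x, y, e'⟩ := h.inv_conj hn (mem_conj.1 c)
  refine ⟨n * φ (qq x y 0), ⟨mul_mem hn (Hy.nM rfl), mem_cent1.2 ?_⟩, by rw [← conj_conj, fixZ, e]⟩
  rw [← map_cj] at e'
  calc _ = n * (φ (qq x y 0) * φ tt * (φ (qq x y 0))⁻¹) * φ (qq x y 0) := by group
    _ = _ := by rw [← e']; group

variable (p : ℕ) [hp : Fact p.Prime] [CharP F p]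

omit h [Fintype F] in
theorem P_le : P0.map φ ≤ 𝐍(M0.map φ) := by rintro _ ⟨k, hk, rfl⟩; exact Hy.nM (P0_le hk)

theorem mem_M_of_pow (hg : g ∈ 𝐍(M0.map φ)) (c : g * φ tt = φ tt * g) (e : IsPGroup p (zpowers g)) :
    g ∈ M0.map φ := by
  have s : Syl p (P0.map φ) 𝐍(M0.map φ) := (h.syl p).of_le P_le le_top
  obtain ⟨n, hn, e1⟩ := s.exists_conj_le e (zpowers_le.2 hg)
  obtain ⟨k, hk, e2⟩ := e1 (conj_mem_conj.2 (mem_zpowers g))
  suffices e : k.y = 0 by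
    have := conj_mem_of_norm' hn (e2 ▸ mem_map_of_mem φ (mem_M0.2 ⟨hk.1, hk.2.1, hk.2.2, e⟩))
    simpa [mul_assoc] using this
  have c' : φ k * (n * φ tt * n⁻¹) = n * φ tt * n⁻¹ * φ k := by
    rw [e2, conj_mul, conj_mul, c]
  have hN := mul_mem (mul_mem hn (Hy.nM (φ := φ) tB)) (inv_mem hn)
  by_cases e3 : (n * φ tt * n⁻¹) ⋆ Z0.map φ = Z0.map φ
  swap
  · exact h.y_of_fix (Om.Z.conj hN) e3 hk (by rw [conj_conj, c', ← conj_conj, fixZ])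
  have e4 := (h.fx_of_norm (Om.Z.conj (inv_mem hn)) (by
    rw [← conj_inj (g := n), conj_inv_conj, conj_conj, conj_conj, e3])).2
  rw [← conj_centralizer, h.cZ] at e4
  obtain ⟨x, y, e5⟩ := h.inv_conj (inv_mem hn) (mem_conj.1 e4)
  rw [inv_inv] at e5
  rw [e5, ← map_mul, ← map_mul] at c'
  have := (cen_tt h.two (g := (qq x y 0)⁻¹ * k * qq x y 0) (by
    calc _ = (qq x y 0)⁻¹ * (k * (qq x y 0 * tt * (qq x y 0)⁻¹)) * qq x y 0 := by group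
      _ = _ := by rw [h.inj c']; group)).2
  simpa [qq, hk.1, hk.2.1, hk.2.2] using this

include p in
theorem fx_uniq (a : Fx φ Y) (hY : Y ≠ Z0.map φ) (a' : Fx φ Y') (hY' : Y' ≠ Z0.map φ) : Y = Y' := by
  classical
  set k := ({Y | Fx φ Y} \ {Z0.map φ}).ncard with hk
  have e1 : {Y | Fx φ Y}.ncard = k + 1 := (Set.ncard_sdiff_singleton_add_one (s := {Y | Fx φ Y}) Fx.Z).symm
  have e2 : {Y | Om φ Y}.ncard = k * Nat.card F + 1 := by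
    rw [← Set.ncard_sdiff_singleton_add_one (s := {Y | Om φ Y}) Om.Z, hk, ← Set.ncard_univ, ← Set.ncard_prod,
      ← Set.InjOn.ncard_image (f := fun v : Subgroup G × F => φ (uu v.2) ⋆ v.1)]
    · congr 2
      refine Set.ext fun Y => ⟨fun ⟨a, n⟩ => ?_, ?_⟩
      · obtain ⟨y, Y', b, c, e⟩ := h.exists_fx a n
        exact ⟨(Y', y), ⟨⟨b, c⟩, trivial⟩, e⟩
      · rintro ⟨⟨Y, y⟩, ⟨⟨a, n⟩, -⟩, rfl⟩
        exact ⟨a.1.conj (Hy.nM (uB y)), fun e => n (conj_inj.1 ((Set.mem_singleton_iff.1 e).trans (fixZ _).symm))⟩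
    · rintro ⟨Y, y⟩ ⟨⟨a, n⟩, -⟩ ⟨Y', y'⟩ ⟨⟨a', -⟩, -⟩ e
      have e' : φ (uu (-y' + y)) ⋆ Y = Y' := by
        rw [← uu_mul, ← uu_inv, map_mul, ← conj_conj, map_inv]
        exact (congrArg _ e).trans (inv_conj_conj _ _)
      have := h.y_of_fx n a (e' ▸ a')
      rw [this, uu_zero, map_one, conj_one] at e'
      rw [e', neg_add_eq_zero.1 this]
  have e3 := norb_card 𝐍(M0.map φ) (Z0.map φ)
  have e4 := norb_card (𝐍(M0.map φ) ⊓ 𝐂[φ tt]) (Z0.map φ)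
  have e5 := corb_card (𝐍(M0.map φ) ⊓ 𝐍(Z0.map φ)) (φ tt)
  rw [show {Y | ∃ n ∈ 𝐍(M0.map φ) ⊓ 𝐂[φ tt], n ⋆ Z0.map φ = Y} = {Y | Fx φ Y} from
    Set.ext fun _ => h.fx_iff.symm, e1] at e4
  rw [show {y | ∃ n ∈ 𝐍(M0.map φ) ⊓ 𝐍(Z0.map φ), n * φ tt * n⁻¹ = y} =
      Set.range fun v : F × F => φ (qq v.1 v.2 0 * tt * (qq v.1 v.2 0)⁻¹) from Set.ext fun g =>
      ⟨fun ⟨n, hn, e⟩ => by
        obtain ⟨x, y, e'⟩ := h.inv_conj (inv_mem hn.1) (conj_mem_of_norm' (h.nC.le (inv_mem hn.2)) ⟨_, rfl⟩)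
        exact ⟨(x, y), e'.symm.trans (by rw [inv_inv, e])⟩,
      fun ⟨v, e⟩ => ⟨_, ⟨Hy.nM rfl, nZ _⟩, (map_cj ..).trans e⟩⟩,
    Set.ncard_range_of_injective fun v w e => by
      have e1 := congrArg Jc.x (h.inj e)
      have e2 := congrArg Jc.y (h.inj e)
      simp [qq, tt] at e1 e2
      exact Prod.ext (mul_left_cancel₀ h.two (by linear_combination e1))
        (mul_left_cancel₀ h.two (by linear_combination e2)), Nat.card_prod, inf_right_comm] at e5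
  obtain ⟨m, -, hm⟩ := FiniteField.card F p
  have c1 : (k + 1).Coprime (Nat.card F) := by
    rw [Nat.card_eq_fintype_card, hm]
    refine ((Nat.Prime.coprime_iff_not_dvd hp.out).2 fun d => ?_).symm.pow_right _
    obtain ⟨S, hS⟩ := Syl.exists p (𝐍(M0.map φ) ⊓ 𝐂[φ tt])
    have l : S ≤ 𝐍(M0.map φ) ⊓ 𝐂[φ tt] ⊓ 𝐍(Z0.map φ) := le_inf hS.le fun g hg => by
      obtain ⟨k, -, rfl⟩ := h.mem_M_of_pow p (hS.le hg).1 (mem_cent1.1 (hS.le hg).2)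
        (pgroup_of_le hS.pgroup (zpowers_le.2 hg))
      exact nZ k
    refine hS.not_dvd' (d.trans (Dvd.dvd.trans ?_ (relIndex_dvd_left l _)))
    exact (Nat.eq_of_mul_eq_mul_left Nat.card_pos ((mul_comm _ _).trans (e4.trans
      (BG.card_mul_relIndex inf_le_left).symm))).dvd
  have c2 : k + 1 ∣ Nat.card F - 1 := by
    have d := card_dvd (inf_le_left (a := 𝐍(M0.map φ)) (b := 𝐂[φ tt]))
    rw [← e3, ← e4, ← e5, ← mul_assoc] at d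
    have d := c1.dvd_of_dvd_mul_right (c1.dvd_of_dvd_mul_right
      (mul_assoc _ _ (Nat.card F) ▸ Nat.dvd_of_mul_dvd_mul_right Nat.card_pos d))
    change k + 1 ∣ {Y | Om φ Y}.ncard at d
    have := Nat.dvd_sub (Dvd.intro (Nat.card F) rfl) (e2 ▸ d)
    rwa [add_mul, one_mul, Nat.add_sub_add_left] at this
  have c3 : k + 1 ∣ 2 := by
    have q4 := h.four
    obtain ⟨r, hr⟩ : 2 ∣ Nat.card F - 1 := by rw [Nat.card_eq_fintype_card]; omega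
    refine (Nat.coprime_of_dvd fun l hl d1 d2 => ?_).dvd_of_dvd_mul_right (hr ▸ c2)
    have l2 : l ≠ 2 := by rintro rfl; rw [Nat.card_eq_fintype_card] at hr; omega
    haveI := Fact.mk hl
    obtain ⟨d, hd⟩ := exists_prime_orderOf_dvd_card' (G := Fˣ) l (by rw [Nat.card_units, hr]; exact d2.mul_left 2)
    have d3 : (d : F) ^ 2 ≠ 1 := fun e => l2 ((Nat.prime_dvd_prime_iff_eq hl Nat.prime_two).1
      (hd ▸ orderOf_dvd_of_pow_eq_one (Units.ext e)))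
    let f : Function.End {Y | Fx φ Y} := fun Y => ⟨φ (hh d) ⋆ Y.1,
      Y.2.conj (Hy.nM (hB d)) (by rw [← map_mul, ← tt_hh, map_mul])⟩
    have fp : ∀ n Y, ((f ^ n) Y).1 = φ (hh (d ^ n)) ⋆ Y.1 := fun n Y => by
      induction n with
      | zero => rw [pow_zero, pow_zero, hh_one, map_one, conj_one]; rfl
      | succ n ih =>
        rw [pow_succ', pow_succ', ← hh_mul, map_mul, ← conj_conj, ← ih]; rfl
    cases nonempty_fintype {Y | Fx φ Y}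
    have := Equiv.Perm.card_fixedPoints_modEq (f := f) (p := l) (n := 1) (funext fun Y => Subtype.ext (by
      rw [fp, pow_one, ← hd, pow_orderOf_eq_one, hh_one, map_one, conj_one]; rfl))
    rw [← Nat.card_eq_fintype_card, ← Nat.card_eq_fintype_card, Nat.card_coe_set_eq, Nat.card_coe_set_eq, e1] at this
    have z : (⟨_, Fx.Z⟩ : {Y | Fx φ Y}) ∈ f.fixedPoints := Subtype.ext (fixZ _)
    have b1 := Set.ncard_sdiff_singleton_add_one z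
    have b2 : (f.fixedPoints \ {⟨_, Fx.Z⟩}).ncard ≤ 1 := Set.ncard_le_one_iff_subsingleton.2 fun Y ⟨a, b⟩ Y' ⟨a', b'⟩ =>
      Subtype.ext (h.oti Y.2.1 Y'.2.1 (h.y_mem (fun e => b (Subtype.ext e)) Y.2 d3 (congrArg Subtype.val a))
        (h.y_mem (fun e => b' (Subtype.ext e)) Y'.2 d3 (congrArg Subtype.val a')) (h.m_ne (.inl one_ne_zero)))
    have := Nat.le_of_dvd (by omega) ((this.dvd_iff dvd_rfl).1 d1)
    have := hl.two_le
    omega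
  have := Nat.le_of_dvd two_pos c3
  exact (Set.ncard_le_one_iff_subsingleton (s := {Y | Fx φ Y} \ {Z0.map φ})).1 (by omega) ⟨a, hY⟩ ⟨a', hY'⟩

end Hc

end Cfsg.Lib.Hay
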